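import Mathlib
import Cfsg.Prelude.Def_CaseTheorems
import Cfsg.Prelude.Def_Classical
import Cfsg.Agent.R01.PSUSix
import Cfsg.Agent.R01.Label
import Cfsg.Agent.S0283
import Cfsg.Agent.R01.Fi22Facts
import Cfsg.Agent.S0280
set_option linter.all false

-- merged: Cfsg.Agent.KFacts.FiTT.Defs
section

/-!
# The facts on `K = Fi22`

`d`, `d'` are two commuting 3-transpositions, `z = d d'`, `R = O_2(C_K(d, d'))`.
-/

set_option autoImplicit false

namespace Cfsg.Agent.KFacts.FiTT

open Subgroup Cfsg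

universe v

/-- The facts on `Fi22`. -/
structure Facts (K : Type v) [Group K] (d d' : K) (R : Subgroup K) : Prop where
  card : Nat.card K = 64561751654400
  dd : d * d = 1
  dd' : d' * d' = 1
  d_ne : d ≠ 1
  d'_ne : d' ≠ 1
  ne : d ≠ d'
  comm : d * d' = d' * d
  /-- an element interchanging `d` and `d'` -/
  swap : ∃ p : K, p * d * p⁻¹ = d' ∧ p * d' * p⁻¹ = d
  /-- `C_K(d)` is quasisimple -/
  quasi : IsQuasisimple ↥(centralizer ({d} : Set K))
  /-- `C_K(d) / ⟨d⟩` is `U6(2)` -/
  quo : ∃ (F : Type) (_ : Field F) (_ : Fintype F), Fintype.card F = 4 ∧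
    Nonempty (↥(centralizer ({d} : Set K)) ⧸ center ↥(centralizer ({d} : Set K)) ≃* PSU 6 F 2)
  /-- `C_K(C_K(d)) = ⟨d⟩` -/
  cc : ∀ x : K, (∀ y, y * d = d * y → x * y = y * x) → x = 1 ∨ x = d
  /-- `C_K(z) = C_K(d, d') ∪ p C_K(d, d')` -/
  cz : ∀ x : K, x * (d * d') = d * d' * x → (x * d = d * x ∧ x * d' = d' * x) ∨
    (x * d * x⁻¹ = d' ∧ x * d' * x⁻¹ = d)
  /-- `C_K(d, d')` is perfect -/
  perfect : commutator ↥(centralizer ({d, d'} : Set K)) = ⊤
  /-- `C_K(C_K(d, d')) = ⟨d, d'⟩` -/
  czP : ∀ x : K, (∀ y, y * d = d * y → y * d' = d' * y → x * y = y * x) →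
    x = 1 ∨ x = d ∨ x = d' ∨ x = d * d'
  R_le : R ≤ centralizer ({d, d'} : Set K)
  d_mem : d ∈ R
  d'_mem : d' ∈ R
  R_two : IsPGroup 2 ↥R
  R_card : Nat.card ↥R = 2 ^ 10
  /-- `R' = ⟨z⟩` -/
  R_comm : ∀ x ∈ R, ∀ y ∈ R, x * y * x⁻¹ * y⁻¹ = 1 ∨ x * y * x⁻¹ * y⁻¹ = d * d'
  R_sq : ∀ x ∈ R, x * x = 1 ∨ x * x = d * d'
  R_nonab : ∃ x ∈ R, ∃ y ∈ R, x * y * x⁻¹ * y⁻¹ = d * d'
  /-- `R` is normal in `C_K(z)` -/
  R_normal : ∀ g : K, g * (d * d') = d * d' * g → ∀ x ∈ R, g * x * g⁻¹ ∈ R
  /-- `Z(R) = ⟨d, d'⟩` -/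
  R_center : ∀ x : K, (∀ y ∈ R, x * y = y * x) → x = 1 ∨ x = d ∨ x = d' ∨ x = d * d'
  /-- the `C_K(d, d')`-invariant subgroups of `R` -/
  dich : ∀ N : Subgroup K, N ≤ R →
    (∀ g, g * d = d * g → g * d' = d' * g → ∀ x ∈ N, g * x * g⁻¹ ∈ N) →
    N = R ∨ ∀ x ∈ N, x = 1 ∨ x = d ∨ x = d' ∨ x = d * d'
  /-- `R = O_2(C_K(d, d'))` -/
  O2 : ∀ N : Subgroup K, N ≤ centralizer ({d, d'} : Set K) →
    (∀ g, g * d = d * g → g * d' = d' * g → ∀ x ∈ N, g * x * g⁻¹ ∈ N) → IsPGroup 2 ↥N → N ≤ R
  /-- `C_K(d, d') / R` is `U4(2)` -/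
  quoR : ∃ (F : Type) (_ : Field F) (_ : Fintype F), Fintype.card F = 4 ∧
    ∃ f : ↥(centralizer ({d, d'} : Set K)) →* PSU 4 F 2, Function.Surjective f ∧
      ∀ x, f x = 1 ↔ (x : K) ∈ R
  /-- `C_K(z)` contains a Sylow 2-subgroup -/
  odd : Odd (centralizer ({d * d'} : Set K)).index
  /-- `Z(S) = ⟨z⟩` for every Sylow 2-subgroup `S` of `K` in `C_K(z)` -/
  center_S : ∀ S : Sylow 2 K, (S : Subgroup K) ≤ centralizer ({d * d'} : Set K) →
    ∀ x ∈ S, (∀ y ∈ S, x * y = y * x) → x = 1 ∨ x = d * d'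

/-- `K` has the facts of `Fi22`. -/
def Has (K : Type v) [Group K] : Prop := ∃ (d d' : K) (R : Subgroup K), Facts K d d' R

end Cfsg.Agent.KFacts.FiTT

end

-- merged: Cfsg.Agent.KFacts.FiTT.Levi
section

/-!
# The stabiliser of an isotropic vector in `SU (m + 2) F 2`

`lev : Stab → SU m F 2`, the action on `u0^⊥ / u0`; its kernel is generated by the transvection `T u0` and the
products of two transvections with centres `w`, `w + c u0`.
-/

set_option autoImplicit false
set_option linter.unusedSectionVars false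

namespace Cfsg.Agent.KFacts.FiTT.Levi

open Cfsg Cfsg.Agent.LieClassical.HermBasic Cfsg.Agent.ClassicalGeometry.UnitTransv
open Cfsg.Agent.SporadicStructure.UnitTwo Cfsg.Agent.R01.PSUSix
open scoped Matrix

section Top

variable {F : Type*} [Field F] {m : ℕ}

/-- The first `m` coordinates. -/
def top (x : Fin (m + 2) → F) : Fin m → F := fun i => x (Fin.castAdd 2 i)

theorem top_apply (x : Fin (m + 2) → F) (i : Fin m) : top x i = x (Fin.castAdd 2 i) := rfl

theorem top_append (x : Fin m → F) (y : Fin 2 → F) : top (Fin.append x y) = x := by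
  funext i
  rw [top_apply, Fin.append_left]

theorem top_add (x y : Fin (m + 2) → F) : top (x + y) = top x + top y := rfl

theorem top_smul (c : F) (x : Fin (m + 2) → F) : top (c • x) = c • top x := rfl

theorem top_u0 : top (u0 F m) = 0 := by rw [u0, top_append]

theorem top_zero : top (0 : Fin (m + 2) → F) = 0 := rfl

/-- The vector `(x, 0, 0)`. -/
def ι (x : Fin m → F) : Fin (m + 2) → F := Fin.append x 0

theorem ι_def (x : Fin m → F) : ι x = Fin.append x 0 := rfl

theorem top_ι (x : Fin m → F) : top (ι x) = x := top_append _ _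

theorem ι_add (x y : Fin m → F) : ι (x + y) = ι x + ι y := by
  funext i
  refine Fin.addCases (fun i => ?_) (fun j => ?_) i <;> simp [ι]

theorem ι_smul (c : F) (x : Fin m → F) : ι (c • x) = c • ι x := by
  funext i
  refine Fin.addCases (fun i => ?_) (fun j => ?_) i <;> simp [ι]

theorem ι_zero : ι (0 : Fin m → F) = 0 := by
  funext i
  refine Fin.addCases (fun i => ?_) (fun j => ?_) i <;> simp [ι]

theorem ι_injective : Function.Injective (ι : (Fin m → F) → _) := fun x y h => by
  rw [← top_ι x, h, top_ι]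

theorem herm_ι (x y : Fin m → F) :
    hermForm (m + 2) F 2 (ι x) (ι y) = hermForm m F 2 x y := by
  rw [ι, ι, herm_append, herm_zero_left, add_zero]

theorem herm_ι_left (x : Fin m → F) (y : Fin (m + 2) → F) :
    hermForm (m + 2) F 2 (ι x) y = hermForm m F 2 x (top y) := by
  rw [herm_def, herm_def, Fin.sum_univ_add]
  simp [ι, top]

end Top

section Stab

variable {F : Type*} [Field F] [Fintype F] {m : ℕ} (hF : Fintype.card F = 2 ^ 2)

variable (F m) in
/-- The stabiliser of `u0`. -/
def Stab : Subgroup (SU (m + 2) F 2) where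
  carrier := {g | act g (u0 F m) = u0 F m}
  mul_mem' := by
    intro a b ha hb
    show act (a * b) (u0 F m) = u0 F m
    rw [act_mul, show act b (u0 F m) = u0 F m from hb, show act a (u0 F m) = u0 F m from ha]
  one_mem' := act_one _
  inv_mem' := by
    intro a ha
    show act a⁻¹ (u0 F m) = u0 F m
    conv_lhs => rw [← show act a (u0 F m) = u0 F m from ha]
    rw [act_inv_act]

theorem mem_Stab {g : SU (m + 2) F 2} : g ∈ Stab F m ↔ act g (u0 F m) = u0 F m := Iff.rfl

include hF

theorem herm_ι_u0 (x : Fin m → F) : hermForm (m + 2) F 2 (ι x) (u0 F m) = 0 := by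
  rw [ι, u0, herm_append, herm_zero_left, herm_zero_right hF, add_zero]

/-- the vectors orthogonal to `u0` -/
theorem perp_eq {x : Fin (m + 2) → F} (h : hermForm (m + 2) F 2 x (u0 F m) = 0) :
    x = ι (top x) + x (Fin.natAdd m 0) • u0 F m := by
  rw [eq_append x, u0, herm_append, herm_zero_right hF, zero_add, herm_def] at h
  simp only [Fin.sum_univ_two, Matrix.cons_val_zero, Matrix.cons_val_one, one_pow, mul_one] at h
  have h1 := eq_of_add_eq_zero hF h
  funext i
  refine Fin.addCases (fun i => ?_) (fun j => ?_) i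
  · simp [ι, top, u0]
  · fin_cases j
    · simp [ι, u0]
    · simpa [ι, u0] using h1.symm

theorem herm_top {x y : Fin (m + 2) → F} (hx : hermForm (m + 2) F 2 x (u0 F m) = 0)
    (hy : hermForm (m + 2) F 2 y (u0 F m) = 0) :
    hermForm m F 2 (top x) (top y) = hermForm (m + 2) F 2 x y := by
  have hy' := herm_eq_zero_swap hF hy
  conv_rhs => rw [perp_eq hF hx]
  rw [herm_add_left, herm_smul_left, hy', mul_zero, add_zero, herm_ι_left]

/-- the action on `u0^⊥ / u0` -/
def topMat (g : SU (m + 2) F 2) : Matrix (Fin m) (Fin m) F := fun i j =>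
  ((g : Matrix.SpecialLinearGroup (Fin (m + 2)) F) : Matrix (Fin (m + 2)) (Fin (m + 2)) F)
    (Fin.castAdd 2 i) (Fin.castAdd 2 j)

omit hF in
theorem topMat_mulVec (g : SU (m + 2) F 2) (y : Fin m → F) :
    topMat g *ᵥ y = top (act g (ι y)) := by
  funext i
  rw [top_apply, act_def]
  simp only [Matrix.mulVec, dotProduct]
  rw [Fin.sum_univ_add]
  simp [topMat, ι]

theorem top_act {g : SU (m + 2) F 2} (hg : g ∈ Stab F m) {x : Fin (m + 2) → F}
    (hx : hermForm (m + 2) F 2 x (u0 F m) = 0) : top (act g x) = topMat g *ᵥ top x := by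
  rw [topMat_mulVec]
  conv_lhs => rw [perp_eq hF hx]
  rw [act_add, act_smul, mem_Stab.1 hg, top_add, top_smul, top_u0, smul_zero, add_zero]

theorem act_perp {g : SU (m + 2) F 2} (hg : g ∈ Stab F m) {x : Fin (m + 2) → F}
    (hx : hermForm (m + 2) F 2 x (u0 F m) = 0) :
    hermForm (m + 2) F 2 (act g x) (u0 F m) = 0 := by
  conv_lhs => rw [← mem_Stab.1 hg]
  rw [herm_act, hx]

theorem topMat_mul {g h : SU (m + 2) F 2} (hg : g ∈ Stab F m) (hh : h ∈ Stab F m) :
    topMat (g * h) = topMat g * topMat h := by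
  apply Matrix.toLin'.injective
  apply LinearMap.ext
  intro y
  rw [Matrix.toLin'_apply, Matrix.toLin'_apply, ← Matrix.mulVec_mulVec, topMat_mulVec,
    topMat_mulVec h, act_mul, top_act hF hg (act_perp hF hh (herm_ι_u0 hF y))]

theorem topMat_herm {g : SU (m + 2) F 2} (hg : g ∈ Stab F m) (x y : Fin m → F) :
    hermForm m F 2 (topMat g *ᵥ x) (topMat g *ᵥ y) = hermForm m F 2 x y := by
  rw [topMat_mulVec, topMat_mulVec, herm_top hF (act_perp hF hg (herm_ι_u0 hF x))
    (act_perp hF hg (herm_ι_u0 hF y)), herm_act, herm_ι_left, top_ι]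

theorem T_mem_Stab {w : Fin (m + 2) → F} (hw : hermForm (m + 2) F 2 w w = 0)
    (hwu : hermForm (m + 2) F 2 w (u0 F m) = 0) : T hF w hw ∈ Stab F m := by
  rw [mem_Stab]
  exact act_T_of_perp hF w hw _ (herm_eq_zero_swap hF hwu)

theorem top_iso {w : Fin (m + 2) → F} (hw : hermForm (m + 2) F 2 w w = 0)
    (hwu : hermForm (m + 2) F 2 w (u0 F m) = 0) : hermForm m F 2 (top w) (top w) = 0 := by
  rw [herm_top hF hwu hwu, hw]

theorem topMat_T {w : Fin (m + 2) → F} (hw : hermForm (m + 2) F 2 w w = 0)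
    (hwu : hermForm (m + 2) F 2 w (u0 F m) = 0) : topMat (T hF w hw) =
    ((T hF (top w) (top_iso hF hw hwu) : Matrix.SpecialLinearGroup (Fin m) F) :
      Matrix (Fin m) (Fin m) F) := by
  apply Matrix.toLin'.injective
  apply LinearMap.ext
  intro y
  rw [Matrix.toLin'_apply, Matrix.toLin'_apply, topMat_mulVec, act_T, top_add, top_smul, top_ι,
    herm_ι_left, ← act_T hF (top w) (top_iso hF hw hwu) y]
  rfl

theorem topMat_one : topMat (1 : SU (m + 2) F 2) = 1 := by
  apply Matrix.toLin'.injective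
  apply LinearMap.ext
  intro y
  rw [Matrix.toLin'_apply, Matrix.toLin'_apply, topMat_mulVec, act_one, top_ι, Matrix.one_mulVec]

theorem Ru_le_Stab : Ru hF (u0 F m) ≤ Stab F m := fun _ hg => act_of_mem_Ru hF hg

theorem Stab_le (hm : 4 ≤ m) : Stab F m ≤ Ru hF (u0 F m) := by
  obtain ⟨ω, hω⟩ := exists_omega hF
  intro g hg
  exact stab_le hF hω hm hg

theorem det_topMat (hm : 4 ≤ m) {g : SU (m + 2) F 2} (hg : g ∈ Stab F m) :
    (topMat g).det = 1 := by
  refine Subgroup.closure_induction (p := fun g _ => (topMat g).det = 1) ?_ ?_ ?_ ?_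
    (Stab_le hF hm hg)
  · rintro g ⟨w, hw, hwu, rfl⟩
    rw [topMat_T hF hw hwu]
    exact (T hF (top w) (top_iso hF hw hwu) : Matrix.SpecialLinearGroup (Fin m) F).det_coe
  · rw [topMat_one hF, Matrix.det_one]
  · intro a b ha hb ha' hb'
    rw [topMat_mul hF (Ru_le_Stab hF ha) (Ru_le_Stab hF hb), Matrix.det_mul, ha', hb', mul_one]
  · intro a ha ha'
    have h1 := topMat_mul hF (Ru_le_Stab hF ha) (Ru_le_Stab hF (inv_mem ha))
    rw [mul_inv_cancel, topMat_one hF] at h1
    have h2 := congrArg Matrix.det h1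
    rw [Matrix.det_one, Matrix.det_mul, ha', one_mul] at h2
    exact h2.symm

/-- **The Levi projection.** -/
noncomputable def lev (hm : 4 ≤ m) : Stab F m →* SU m F 2 where
  toFun g := mk (topMat (g : SU (m + 2) F 2)) (det_topMat hF hm g.2) (topMat_herm hF g.2)
  map_one' := by
    apply ext_act
    intro x
    rw [act_mk, act_one]
    show topMat (1 : SU (m + 2) F 2) *ᵥ x = x
    rw [topMat_one hF, Matrix.one_mulVec]
  map_mul' g h := by
    apply ext_act
    intro x
    rw [act_mul, act_mk, act_mk, act_mk, Matrix.mulVec_mulVec]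
    show topMat ((g : SU (m + 2) F 2) * (h : SU (m + 2) F 2)) *ᵥ x = _
    rw [topMat_mul hF g.2 h.2]

theorem act_lev (hm : 4 ≤ m) (g : Stab F m) (x : Fin m → F) :
    act (lev hF hm g) x = top (act (g : SU (m + 2) F 2) (ι x)) := by
  rw [← topMat_mulVec]
  exact act_mk _ _ _ _

theorem act_lev_top (hm : 4 ≤ m) (g : Stab F m) {x : Fin (m + 2) → F}
    (hx : hermForm (m + 2) F 2 x (u0 F m) = 0) :
    act (lev hF hm g) (top x) = top (act (g : SU (m + 2) F 2) x) := by
  rw [top_act hF g.2 hx]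
  exact act_mk _ _ _ _

theorem lev_T (hm : 4 ≤ m) {w : Fin (m + 2) → F} (hw : hermForm (m + 2) F 2 w w = 0)
    (hwu : hermForm (m + 2) F 2 w (u0 F m) = 0) :
    lev hF hm ⟨T hF w hw, T_mem_Stab hF hw hwu⟩ = T hF (top w) (top_iso hF hw hwu) := by
  apply ext_act
  intro x
  rw [act_lev, act_T, act_T, top_add, top_smul, top_ι, herm_ι_left]

theorem emb_mem (g0 : SU m F 2) : emb 2 g0 ∈ Stab F m := by
  rw [mem_Stab, u0, act_emb, act_zero]

theorem lev_emb (hm : 4 ≤ m) (g0 : SU m F 2) : lev hF hm ⟨emb 2 g0, emb_mem hF g0⟩ = g0 := by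
  apply ext_act
  intro x
  rw [act_lev, ι_def, act_emb, top_append]

theorem lev_surjective (hm : 4 ≤ m) : Function.Surjective (lev (F := F) hF hm) := fun g0 =>
  ⟨⟨emb 2 g0, emb_mem hF g0⟩, lev_emb hF hm g0⟩

/-! ### The unipotent radical -/

/-- the elements with parameter `a`: `x ↦ x + h(x, a) u0` on the orthogonal complement of `u0` -/
def Par (g : SU (m + 2) F 2) (a : Fin m → F) : Prop :=
  act g (u0 F m) = u0 F m ∧ ∀ y : Fin m → F, act g (ι y) = ι y + hermForm m F 2 y a • u0 F m

theorem Par.mul {g h : SU (m + 2) F 2} {a b : Fin m → F} (hg : Par g a) (hh : Par h b) :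
    Par (g * h) (a + b) := by
  refine ⟨by rw [act_mul, hh.1, hg.1], fun y => ?_⟩
  rw [act_mul, hh.2, act_add, act_smul, hg.1, hg.2, herm_add_right hF, add_smul]
  abel

theorem Par.inv {g : SU (m + 2) F 2} {a : Fin m → F} (hg : Par g a) : Par g⁻¹ a := by
  have h0 : act g⁻¹ (u0 F m) = u0 F m := by
    conv_lhs => rw [← hg.1]
    rw [act_inv_act]
  refine ⟨h0, fun y => ?_⟩
  apply act_injective g
  rw [act_act_inv, act_add, act_smul, hg.1, hg.2, add_assoc, ← add_smul, add_self hF, zero_smul,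
    add_zero]

theorem Par.one : Par (1 : SU (m + 2) F 2) 0 :=
  ⟨act_one _, fun y => by rw [act_one, herm_zero_right hF, zero_smul, add_zero]⟩

theorem exists_par (hm : 4 ≤ m) {g : Stab F m} (hg : lev hF hm g = 1) :
    ∃ a, Par (g : SU (m + 2) F 2) a := by
  set φ : (Fin m → F) → F := fun y => act (g : SU (m + 2) F 2) (ι y) (Fin.natAdd m 0) with hφ
  have hact : ∀ y, act (g : SU (m + 2) F 2) (ι y) = ι y + φ y • u0 F m := by
    intro y
    have h1 := perp_eq hF (act_perp hF g.2 (herm_ι_u0 hF y))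
    rw [← act_lev hF hm g y, hg, act_one] at h1
    exact h1
  have hadd : ∀ x y, φ (x + y) = φ x + φ y := by
    intro x y
    simp only [hφ, ι_add, act_add, Pi.add_apply]
  have hsmul : ∀ (c : F) y, φ (c • y) = c * φ y := by
    intro c y
    simp only [hφ, ι_smul, act_smul, Pi.smul_apply, smul_eq_mul]
  have hsum : ∀ y : Fin m → F, φ y = ∑ i, y i * φ (Pi.single i 1) := by
    intro y
    let L : (Fin m → F) →ₗ[F] F :=
      { toFun := φ
        map_add' := hadd
        map_smul' := fun c y => by rw [hsmul]; rfl }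
    have h1 : L y = ∑ i, y i • L (Pi.single i 1) := by
      conv_lhs => rw [pi_eq_sum_univ' y]
      rw [map_sum]
      simp only [map_smul]
    exact h1
  refine ⟨fun i => φ (Pi.single i 1) ^ 2, mem_Stab.1 g.2, fun y => ?_⟩
  rw [hact, hsum y, herm_def]
  congr 2
  refine Finset.sum_congr rfl fun i _ => ?_
  have := pow_four hF (φ (Pi.single i 1))
  linear_combination (-y i) * this

theorem Par.lev_eq (hm : 4 ≤ m) {g : Stab F m} {a : Fin m → F}
    (h : Par (g : SU (m + 2) F 2) a) : lev hF hm g = 1 := by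
  apply ext_act
  intro x
  rw [act_lev, h.2, act_one, top_add, top_smul, top_u0, smul_zero, add_zero, top_ι]

/-- an element acting trivially on the orthogonal complement of `u0` -/
theorem eq_of_par_zero (hm : 1 ≤ m) {g : SU (m + 2) F 2} (h : Par g 0) :
    g = 1 ∨ g = T hF (u0 F m) (herm_u0 hF) := by
  obtain ⟨ω, hω⟩ := exists_omega hF
  have hperp : ∀ x, hermForm (m + 2) F 2 x (u0 F m) = 0 → act g x = x := by
    intro x hx
    conv_lhs => rw [perp_eq hF hx]
    rw [act_add, act_smul, h.1, h.2, herm_zero_right hF, zero_smul, add_zero, ← perp_eq hF hx]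
  set v := v0 m ω with hv
  have hvu := herm_v0_u0 (F := F) hF hω (m := m)
  have huv := herm_u0_v0 (F := F) hF hω (m := m)
  have hvv := herm_v0 (F := F) hF hω (m := m)
  have huu := herm_u0 (F := F) hF (m := m)
  obtain ⟨t, ht⟩ : ∃ t : F, act g v + v = t • u0 F m := by
    by_contra hcon
    obtain ⟨a, ha, ha'⟩ := exists_perp_ne hF (u0_ne_zero (F := F) hF (m := m)) hcon
    apply ha'
    have h1 : hermForm (m + 2) F 2 (act g v) a = hermForm (m + 2) F 2 v a := by
      conv_lhs => rw [← hperp a ha]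
      rw [herm_act]
    rw [herm_add_left, h1]
    exact add_self hF _
  have hgv : act g v = v + t • u0 F m := by
    have := congrArg (fun x => x + v) ht
    simp only [add_assoc, vadd_self hF, add_zero] at this
    rw [this]
    exact add_comm _ _
  have ht2 : t ^ 2 = t := by
    have h1 : hermForm (m + 2) F 2 (act g v) (act g v) = 0 := by rw [herm_act, hvv]
    rw [hgv, herm_add_left, herm_add_right hF, herm_add_right hF, herm_smul_left, herm_smul_right,
      herm_smul_left, herm_smul_right, hvv, hvu, huv, huu] at h1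
    have h2 := two_eq_zero hF
    linear_combination h1 - t * h2
  have hdec : ∀ x : Fin (m + 2) → F, ∃ y : Fin (m + 2) → F, ∃ c : F,
      hermForm (m + 2) F 2 y (u0 F m) = 0 ∧ x = y + c • v := by
    intro x
    refine ⟨x + hermForm (m + 2) F 2 x (u0 F m) • v, hermForm (m + 2) F 2 x (u0 F m), ?_, ?_⟩
    · rw [herm_add_left, herm_smul_left, hvu, mul_one]
      exact add_self hF _
    · rw [add_assoc, vadd_self hF, add_zero]
  rcases zero_or_one_of_fixed hF ht2 with rfl | rfl
  · left
    apply ext_act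
    intro x
    obtain ⟨y, c, hy, rfl⟩ := hdec x
    rw [act_add, act_smul, hperp y hy, hgv, zero_smul, add_zero, act_one]
  · right
    apply ext_act
    intro x
    obtain ⟨y, c, hy, rfl⟩ := hdec x
    rw [act_add, act_smul, hperp y hy, hgv, act_T, herm_add_left, hy, zero_add, herm_smul_left, hvu,
      mul_one, one_smul, smul_add, add_assoc]

/-- a product of two transvections -/
theorem iso_add {w : Fin (m + 2) → F} (hw : hermForm (m + 2) F 2 w w = 0)
    (hwu : hermForm (m + 2) F 2 w (u0 F m) = 0) (c : F) :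
    hermForm (m + 2) F 2 (w + c • u0 F m) (w + c • u0 F m) = 0 := by
  rw [herm_add_left, herm_add_right hF, herm_add_right hF, herm_smul_left, herm_smul_right,
    herm_smul_left, herm_smul_right, hw, hwu, herm_eq_zero_swap hF hwu, herm_u0 hF]
  ring

theorem perp_add {w : Fin (m + 2) → F} (hwu : hermForm (m + 2) F 2 w (u0 F m) = 0) (c : F) :
    hermForm (m + 2) F 2 (w + c • u0 F m) (u0 F m) = 0 := by
  rw [herm_add_left, herm_smul_left, hwu, herm_u0 hF]
  ring

theorem act_pair {w : Fin (m + 2) → F} (hw : hermForm (m + 2) F 2 w w = 0)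
    (hwu : hermForm (m + 2) F 2 w (u0 F m) = 0) (c : F) {x : Fin (m + 2) → F}
    (hx : hermForm (m + 2) F 2 x (u0 F m) = 0) :
    act (T hF w hw * T hF (w + c • u0 F m) (iso_add hF hw hwu c)) x =
      x + (hermForm (m + 2) F 2 x w * c) • u0 F m := by
  have e1 : hermForm (m + 2) F 2 x (w + c • u0 F m) = hermForm (m + 2) F 2 x w := by
    rw [herm_add_right hF, herm_smul_right, hx, mul_zero, add_zero]
  have e2 : hermForm (m + 2) F 2 (w + c • u0 F m) w = 0 := by
    rw [herm_add_left, herm_smul_left, herm_eq_zero_swap hF hwu, hw, mul_zero, add_zero]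
  rw [act_mul, act_T hF (w + c • u0 F m), e1, act_T, herm_add_left, herm_smul_left, e2, mul_zero,
    add_zero]
  have h2 := vadd_self hF (hermForm (m + 2) F 2 x w • w)
  rw [smul_add, smul_smul]
  calc x + (hermForm (m + 2) F 2 x w • w + (hermForm (m + 2) F 2 x w * c) • u0 F m) +
        hermForm (m + 2) F 2 x w • w
      = x + (hermForm (m + 2) F 2 x w * c) • u0 F m +
        (hermForm (m + 2) F 2 x w • w + hermForm (m + 2) F 2 x w • w) := by abel
    _ = _ := by rw [h2, add_zero]

theorem pair_par {w : Fin (m + 2) → F} (hw : hermForm (m + 2) F 2 w w = 0)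
    (hwu : hermForm (m + 2) F 2 w (u0 F m) = 0) (c : F) :
    Par (T hF w hw * T hF (w + c • u0 F m) (iso_add hF hw hwu c)) (c ^ 2 • top w) := by
  refine ⟨?_, fun y => ?_⟩
  · rw [act_pair hF hw hwu c (herm_u0 hF), herm_eq_zero_swap hF hwu, zero_mul, zero_smul, add_zero]
  · rw [act_pair hF hw hwu c (herm_ι_u0 hF y), herm_ι_left, herm_smul_right, ← pow_mul]
    have : c ^ (2 * 2) = c := pow_four hF c
    rw [this, mul_comm]

variable (F m) in
/-- The group generated by the products of two transvections in the same block. -/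
def Q : Subgroup (SU (m + 2) F 2) :=
  Subgroup.closure {g | ∃ (w : Fin (m + 2) → F) (hw : hermForm (m + 2) F 2 w w = 0)
    (hwu : hermForm (m + 2) F 2 w (u0 F m) = 0) (c : F), w ≠ 0 ∧ w + c • u0 F m ≠ 0 ∧
    g = T hF w hw * T hF (w + c • u0 F m) (iso_add hF hw hwu c)}

/-- every parameter occurs in `Q` -/
theorem exists_mem_Q (hm : 2 ≤ m) (a : Fin m → F) : ∃ r ∈ Q F m hF, Par r a := by
  obtain ⟨ω, hω⟩ := exists_omega hF
  have hω0 : ω ≠ 0 := by
    rintro rfl
    simp at hω
  have hiso : ∀ a : Fin m → F, hermForm m F 2 a a = 0 → ∃ r ∈ Q F m hF, Par r a := by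
    intro a ha
    by_cases ha0 : a = 0
    · subst ha0
      exact ⟨1, one_mem _, Par.one hF⟩
    have hw : hermForm (m + 2) F 2 (ι a) (ι a) = 0 := by rw [herm_ι_left, top_ι, ha]
    have hwu := herm_ι_u0 hF a
    refine ⟨_, Subgroup.subset_closure ⟨ι a, hw, hwu, 1, ?_, ?_, rfl⟩, ?_⟩
    · intro h
      apply ha0
      rw [← top_ι a, h, top_zero]
    · intro h
      apply ha0
      have := congrArg top h
      rwa [top_add, top_smul, top_u0, smul_zero, add_zero, top_ι, top_zero] at this
    · have := pair_par hF hw hwu 1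
      have h1 : ((1 : F) ^ 2) • top (ι a) = a := by rw [one_pow, one_smul, top_ι]
      rw [h1] at this
      exact this
  have hadd : ∀ a b : Fin m → F, (∃ r ∈ Q F m hF, Par r a) → (∃ r ∈ Q F m hF, Par r b) →
      ∃ r ∈ Q F m hF, Par r (a + b) := by
    rintro a b ⟨r, hr, hra⟩ ⟨s, hs, hsb⟩
    exact ⟨r * s, mul_mem hr hs, hra.mul hF hsb⟩
  have hsingle : ∀ (i : Fin m) (t : F), ∃ r ∈ Q F m hF, Par r (Pi.single i t) := by
    intro i t
    by_cases ht : t = 0
    · subst ht
      rw [Pi.single_zero]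
      exact ⟨1, one_mem _, Par.one hF⟩
    obtain ⟨j, hj⟩ : ∃ j : Fin m, j ≠ i := by
      have : Nontrivial (Fin m) := Fin.nontrivial_iff_two_le.2 hm
      exact exists_ne i
    have hi : ∀ s : F, s ≠ 0 → hermForm m F 2 (Pi.single i s + Pi.single j 1)
        (Pi.single i s + Pi.single j 1) = 0 := by
      intro s hs
      rw [herm_add_left, herm_single_left, herm_single_left]
      simp only [Pi.add_apply, Pi.single_eq_same, Pi.single_eq_of_ne hj, Pi.single_eq_of_ne hj.symm,
        add_zero, zero_add]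
      have h3 := pow_three hF hs
      linear_combination h3 + two_eq_zero hF
    have h1 := hadd _ _ (hiso _ (hi (ω * t) (mul_ne_zero hω0 ht)))
      (hiso _ (hi (ω ^ 2 * t) (mul_ne_zero (pow_ne_zero 2 hω0) ht)))
    have h2 : (Pi.single i (ω * t) + Pi.single j 1 + (Pi.single i (ω ^ 2 * t) + Pi.single j 1) :
        Fin m → F) = Pi.single i t := by
      have h3 : (Pi.single i (ω * t) + Pi.single j 1 + (Pi.single i (ω ^ 2 * t) + Pi.single j 1) :
          Fin m → F) = Pi.single i (ω * t + ω ^ 2 * t) + Pi.single j (1 + 1) := by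
        rw [Pi.single_add, Pi.single_add]
        abel
      rw [h3, add_self hF, Pi.single_zero, add_zero]
      congr 1
      linear_combination t * hω - t * two_eq_zero hF
    rwa [h2] at h1
  have hsum : ∀ (s : Finset (Fin m)), ∃ r ∈ Q F m hF, Par r (∑ i ∈ s, Pi.single i (a i)) := by
    classical
    intro s
    induction s using Finset.induction_on with
    | empty => exact ⟨1, one_mem _, Par.one hF⟩
    | insert i s his ih =>
      rw [Finset.sum_insert his]
      exact hadd _ _ (hsingle i (a i)) ih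
  have := hsum Finset.univ
  rwa [Finset.univ_sum_single] at this

/-- **The kernel of the Levi projection.** -/
theorem exists_mem_Q_of_lev (hm : 4 ≤ m) {g : Stab F m} (hg : lev hF hm g = 1) :
    ∃ r ∈ Q F m hF, (g : SU (m + 2) F 2) = r ∨
      (g : SU (m + 2) F 2) = r * T hF (u0 F m) (herm_u0 hF) := by
  obtain ⟨a, ha⟩ := exists_par hF hm hg
  obtain ⟨r, hr, hra⟩ := exists_mem_Q hF (by omega) a
  refine ⟨r, hr, ?_⟩
  have h1 := (hra.inv hF).mul hF ha
  have h2 : a + a = 0 := vadd_self hF a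
  rw [h2] at h1
  rcases eq_of_par_zero hF (by omega) h1 with h3 | h3
  · left
    exact (inv_mul_eq_one.1 h3).symm
  · right
    rw [← h3, mul_inv_cancel_left]

end Stab

end Cfsg.Agent.KFacts.FiTT.Levi

end

-- merged: Cfsg.Agent.KFacts.FiTT.Cent
section

/-!
# The centraliser of two commuting transpositions: unitary coordinates

`C` is a double cover of `PSU 6 F 2` with labelled transpositions `lift v`; `P0` is the centraliser of
`lift u0` in `C`, `lv : P0 → SU 4 F 2` the Levi projection with kernel `Rad`.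
-/

set_option autoImplicit false
set_option linter.unusedSectionVars false

namespace Cfsg.Agent.KFacts.FiTT.Cent

open Cfsg Cfsg.Agent.LieClassical.HermBasic Cfsg.Agent.ClassicalGeometry.UnitTransv
open Cfsg.Agent.SporadicStructure.UnitTwo Cfsg.Agent.R01.PSUSix
open Cfsg.Agent.ClassicalGeometry.UnitAutBasic (tau pr pr_surjective exists_scalar_of_pr_eq)
open Cfsg.Agent.R01.Lifts Cfsg.Agent.R01.Label
open Cfsg.Agent.KFacts.FiTT.Levi

variable {C : Type*} [Group C] {F : Type*} [Field F] [Fintype F] {hF : Fintype.card F = 2 ^ 2}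
  {π : C →* PSU 6 F 2} {z : C} {lift : (Fin 6 → F) → C}

/-- the base vector -/
abbrev u : Fin 6 → F := u0 F 4

theorem hu (hF : Fintype.card F = 2 ^ 2) : hermForm 6 F 2 (u : Fin 6 → F) u = 0 := herm_u0 (m := 4) hF

theorem u_ne (hF : Fintype.card F = 2 ^ 2) : (u : Fin 6 → F) ≠ 0 := u0_ne_zero (m := 4) hF

/-- `w` is an isotropic vector orthogonal to `u` which is not a multiple of `u` -/
structure Adm (w : Fin 6 → F) : Prop where
  iso : hermForm 6 F 2 w w = 0
  perp : hermForm 6 F 2 w u = 0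
  indep : ¬ ∃ c : F, w = c • u

namespace Adm

theorem ne {w : Fin 6 → F} (h : Adm w) : w ≠ 0 := fun h0 => h.indep ⟨0, by rw [h0, zero_smul]⟩

theorem add (hF : Fintype.card F = 2 ^ 2) {w : Fin 6 → F} (h : Adm w) (c : F) :
    Adm (w + c • u) where
  iso := iso_add (m := 4) hF h.iso h.perp c
  perp := perp_add (m := 4) hF h.perp c
  indep := by
    rintro ⟨k, hk⟩
    apply h.indep
    refine ⟨k - c, ?_⟩
    rw [sub_smul, ← hk, add_sub_cancel_right]

theorem smul {w : Fin 6 → F} (h : Adm w) {c : F} (hc : c ≠ 0) : Adm (c • w) where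
  iso := by rw [herm_smul_left, herm_smul_right, h.iso, mul_zero, mul_zero]
  perp := by rw [herm_smul_left, h.perp, mul_zero]
  indep := by
    rintro ⟨k, hk⟩
    apply h.indep
    refine ⟨c⁻¹ * k, ?_⟩
    rw [mul_smul, ← hk, smul_smul, inv_mul_cancel₀ hc, one_smul]

theorem map (hF : Fintype.card F = 2 ^ 2) {w : Fin 6 → F} (h : Adm w) {g : SU 6 F 2} {k : F}
    (hk : k ≠ 0) (hg : act g u = k • u) : Adm (act g w) where
  iso := by rw [herm_act, h.iso]
  perp := by
    have h1 : hermForm 6 F 2 (act g w) (act g u) = 0 := by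
      rw [herm_act, h.perp]
    rw [hg, herm_smul_right] at h1
    exact (mul_eq_zero.1 h1).resolve_left (pow_ne_zero _ hk)
  indep := by
    rintro ⟨c, hc⟩
    apply h.indep
    refine ⟨c * k⁻¹, ?_⟩
    apply act_injective g
    rw [hc, act_smul, hg, smul_smul, mul_assoc, inv_mul_cancel₀ hk, mul_one]

end Adm

/-- the centraliser of `lift u` -/
def P0 (lift : (Fin 6 → F) → C) : Subgroup C := Subgroup.centralizer ({lift u} : Set C)

theorem mem_P0 {c : C} : c ∈ P0 lift ↔ c * lift u = lift u * c :=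
  Subgroup.mem_centralizer_singleton_iff

variable (L : Lab hF π z z lift)
include L

theorem exists_stab {c : C} (hc : c ∈ P0 lift) :
    ∃ g : SU 6 F 2, g ∈ Stab F 4 ∧ pr 6 F 2 g = π c := by
  obtain ⟨g, hg⟩ := pr_surjective (π c)
  have huu := hu (F := F) hF
  have hu0 := u_ne (F := F) hF
  have h1 : lift (u : Fin 6 → F) = lift (act g u) := by
    rw [← L.conj c g u hg.symm hu0 huu, mem_P0.1 hc, mul_inv_cancel_right]
  obtain ⟨k, hk0, hk⟩ := (L.lift_eq_iff huu (by rw [herm_act, huu]) hu0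
    (Lab.act_ne_zero hu0)).1 h1
  have hk3 : k⁻¹ ^ 3 = 1 := pow_three hF (inv_ne_zero hk0)
  set s : SU 6 F 2 := Cfsg.Agent.LieClassical.SUBasic.suScalar 2 k⁻¹
    (by rw [show (6 : ℕ) = 3 * 2 from rfl, pow_mul, hk3, one_pow]) hk3 with hs
  have hsact : ∀ v : Fin 6 → F, act s v = k⁻¹ • v := by
    intro v
    rw [act_def, hs, Cfsg.Agent.LieClassical.SUBasic.coe_suScalar]
    funext i
    rw [Matrix.mulVec_diagonal]
    rfl
  have hsc : s ∈ Subgroup.center (SU 6 F 2) :=
    Cfsg.Agent.LieClassical.SUBasic.suScalar_mem_center _ _ _ _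
  have hprs : pr 6 F 2 s = 1 := (QuotientGroup.eq_one_iff s).2 hsc
  refine ⟨s * g, ?_, by rw [map_mul, hprs, one_mul, hg]⟩
  rw [mem_Stab, act_mul, hk, hsact, smul_smul, inv_mul_cancel₀ hk0, one_smul]

omit L in
theorem stab_unique (hF : Fintype.card F = 2 ^ 2) {g g' : SU 6 F 2} (hg : g ∈ Stab F 4)
    (hg' : g' ∈ Stab F 4) (h : pr 6 F 2 g = pr 6 F 2 g') : g = g' := by
  obtain ⟨c, -, hc'⟩ := exists_scalar_of_pr_eq hF (by norm_num) h
  have hc : ∀ x : Fin 6 → F, act g' x = c • act g x := hc'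
  have h1 := hc u
  rw [mem_Stab.1 hg, mem_Stab.1 hg'] at h1
  have h2 : (1 - c) • (u : Fin 6 → F) = 0 := by
    rw [sub_smul, one_smul, ← h1, sub_self]
  have h3 : c = 1 := by
    rcases smul_eq_zero.1 h2 with h | h
    · linear_combination -h
    · exact absurd h (u_ne hF)
  apply ext_act
  intro x
  rw [hc x, h3, one_smul]

/-- the representative in the stabiliser of `u` -/
noncomputable def st : P0 lift →* Stab F 4 where
  toFun c := ⟨(exists_stab L c.2).choose, (exists_stab L c.2).choose_spec.1⟩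
  map_one' := by
    apply Subtype.ext
    apply stab_unique hF (exists_stab L (one_mem (P0 lift))).choose_spec.1 (one_mem _)
    rw [(exists_stab L (one_mem (P0 lift))).choose_spec.2, map_one, map_one]
  map_mul' a b := by
    apply Subtype.ext
    apply stab_unique hF (exists_stab L (mul_mem a.2 b.2)).choose_spec.1
      (mul_mem (exists_stab L a.2).choose_spec.1 (exists_stab L b.2).choose_spec.1)
    rw [(exists_stab L (mul_mem a.2 b.2)).choose_spec.2, map_mul, map_mul,
      (exists_stab L a.2).choose_spec.2, (exists_stab L b.2).choose_spec.2]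

theorem pr_st (c : P0 lift) : pr 6 F 2 (st L c : SU 6 F 2) = π c :=
  (exists_stab L c.2).choose_spec.2

theorem st_eq {c : P0 lift} {g : SU 6 F 2} (hg : g ∈ Stab F 4) (h : π c = pr 6 F 2 g) :
    st L c = ⟨g, hg⟩ := by
  apply Subtype.ext
  exact stab_unique hF (st L c).2 hg (by rw [pr_st, h])

theorem st_surjective : Function.Surjective (st L) := by
  rintro ⟨g, hg⟩
  obtain ⟨c, hc⟩ := L.ext.surj (pr 6 F 2 g)
  have hcP : c ∈ P0 lift := by
    rw [mem_P0, ← mul_inv_eq_iff_eq_mul, L.conj c g u hc (u_ne hF) (hu hF), mem_Stab.1 hg]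
  exact ⟨⟨c, hcP⟩, st_eq L hg hc⟩

theorem st_eq_one_iff (c : P0 lift) : st L c = 1 ↔ (c : C) = 1 ∨ (c : C) = z := by
  rw [← L.ext.ker]
  constructor
  · intro h
    rw [← pr_st L, h]
    exact map_one _
  · intro h
    exact st_eq L (one_mem _) (by rw [h, map_one])

theorem act_st (c : P0 lift) : act (st L c : SU 6 F 2) (u : Fin 6 → F) = u := (st L c).2

/-- conjugation of the transpositions by `P0` -/
theorem conj_lift (c : P0 lift) {w : Fin 6 → F} (h0 : w ≠ 0) (hw : hermForm 6 F 2 w w = 0) :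
    (c : C) * lift w * (c : C)⁻¹ = lift (act (st L c : SU 6 F 2) w) :=
  L.conj c _ w (pr_st L c).symm h0 hw

theorem lift_mem {w : Fin 6 → F} (h0 : w ≠ 0) (hw : hermForm 6 F 2 w w = 0)
    (hwu : hermForm 6 F 2 w u = 0) : lift w ∈ P0 lift := by
  rw [mem_P0]
  exact (L.commute_iff hw (hu hF) h0 (u_ne hF)).2 hwu

theorem st_lift {w : Fin 6 → F} (h0 : w ≠ 0) (hw : hermForm 6 F 2 w w = 0)
    (hwu : hermForm 6 F 2 w u = 0) :
    st L ⟨lift w, lift_mem L h0 hw hwu⟩ = ⟨T hF w hw, T_mem_Stab (m := 4) hF hw hwu⟩ :=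
  st_eq L _ (by rw [← tau_eq_pr hF hw]; exact L.map w h0 hw)

theorem z_mem : z ∈ P0 lift := by
  rw [mem_P0]
  exact (L.ext.comm _).symm

/-! ### The Levi projection -/

/-- the Levi projection -/
noncomputable def lv : P0 lift →* SU 4 F 2 := (lev (m := 4) hF (le_refl 4)).comp (st L)

theorem lv_apply (c : P0 lift) : lv L c = lev (m := 4) hF (le_refl 4) (st L c) := rfl

theorem lv_surjective : Function.Surjective (lv L) :=
  (lev_surjective (m := 4) hF (le_refl 4)).comp (st_surjective L)

theorem lv_lift {w : Fin 6 → F} (h0 : w ≠ 0) (hw : hermForm 6 F 2 w w = 0)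
    (hwu : hermForm 6 F 2 w u = 0) :
    lv L ⟨lift w, lift_mem L h0 hw hwu⟩ =
      T hF (top (m := 4) w) (top_iso (m := 4) hF hw hwu) := by
  rw [lv_apply, st_lift L h0 hw hwu]
  exact lev_T (m := 4) hF (le_refl 4) hw hwu

/-! ### The radical -/

omit L in
/-- The radical: generated by the products of two transpositions in the same block. -/
def Rad (lift : (Fin 6 → F) → C) : Subgroup C :=
  Subgroup.closure {x | ∃ (w : Fin 6 → F) (c : F), w ≠ 0 ∧ w + c • u ≠ 0 ∧
    hermForm 6 F 2 w w = 0 ∧ hermForm 6 F 2 w u = 0 ∧ x = lift w * lift (w + c • u)}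

omit L in
theorem pair_mem_Rad {w : Fin 6 → F} (h : Adm w) {w' : Fin 6 → F} {c : F} (hw' : w' = w + c • u)
    (h0 : w' ≠ 0) : lift w * lift w' ∈ Rad lift := by
  subst hw'
  exact Subgroup.subset_closure ⟨w, c, h.ne, h0, h.iso, h.perp, rfl⟩

theorem Rad_le : Rad lift ≤ P0 lift := by
  unfold Rad
  rw [Subgroup.closure_le]
  rintro x ⟨w, c, h0, h0', hw, hwu, rfl⟩
  exact mul_mem (lift_mem L h0 hw hwu)
    (lift_mem L h0' (iso_add (m := 4) hF hw hwu c) (perp_add (m := 4) hF hwu c))

theorem conj_mem_Rad {c x : C} (hc : c ∈ P0 lift) (hx : x ∈ Rad lift) : c * x * c⁻¹ ∈ Rad lift := by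
  refine Subgroup.closure_induction (p := fun x _ => c * x * c⁻¹ ∈ Rad lift) ?_ ?_ ?_ ?_ hx
  · rintro x ⟨w, k, h0, h0', hw, hwu, rfl⟩
    have h1 : c * (lift w * lift (w + k • u)) * c⁻¹ =
        (c * lift w * c⁻¹) * (c * lift (w + k • u) * c⁻¹) := by group
    rw [h1, conj_lift L ⟨c, hc⟩ h0 hw, conj_lift L ⟨c, hc⟩ h0' (iso_add (m := 4) hF hw hwu k),
      act_add, act_smul, act_st]
    refine Subgroup.subset_closure ⟨_, k, Lab.act_ne_zero h0, ?_, by rw [herm_act, hw], ?_, rfl⟩
    · have := Lab.act_ne_zero (g := (st L ⟨c, hc⟩ : SU 6 F 2)) h0'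
      rwa [act_add, act_smul, act_st] at this
    · exact act_perp (m := 4) hF (st L ⟨c, hc⟩).2 hwu
  · rw [mul_one, mul_inv_cancel]; exact one_mem _
  · intro a b _ _ ha hb
    have : c * (a * b) * c⁻¹ = (c * a * c⁻¹) * (c * b * c⁻¹) := by group
    rw [this]
    exact mul_mem ha hb
  · intro a _ ha
    have : c * a⁻¹ * c⁻¹ = (c * a * c⁻¹)⁻¹ := by group
    rw [this]
    exact inv_mem ha

theorem lv_of_mem_Rad {c : P0 lift} (hc : (c : C) ∈ Rad lift) : lv L c = 1 := by
  have key : ∀ x ∈ Rad lift, ∀ hx : x ∈ P0 lift, lv L ⟨x, hx⟩ = 1 := by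
    intro x hx
    refine Subgroup.closure_induction (p := fun x _ => ∀ hx : x ∈ P0 lift, lv L ⟨x, hx⟩ = 1)
      ?_ ?_ ?_ ?_ hx
    · rintro x ⟨w, k, h0, h0', hw, hwu, rfl⟩ hx
      have hw' := iso_add (m := 4) hF hw hwu k
      have hwu' := perp_add (m := 4) hF hwu k
      have h1 : (⟨lift w * lift (w + k • u), hx⟩ : P0 lift) =
          ⟨lift w, lift_mem L h0 hw hwu⟩ * ⟨lift (w + k • u), lift_mem L h0' hw' hwu'⟩ := rfl
      rw [h1, map_mul, lv_lift L h0 hw hwu, lv_lift L h0' hw' hwu']
      have h2 : top (m := 4) (w + k • u) = top (m := 4) w := by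
        rw [Levi.top_add, Levi.top_smul, top_u0, smul_zero, add_zero]
      have h3 : T hF (top (m := 4) (w + k • u)) (top_iso (m := 4) hF hw' hwu') =
          T hF (top (m := 4) w) (top_iso (m := 4) hF hw hwu) := by
        apply ext_act
        intro x
        rw [act_T, act_T, h2]
      rw [h3, T_mul_self]
    · intro hx
      exact map_one _
    · intro a b ha hb ha' hb' hx
      have h1 : (⟨a * b, hx⟩ : P0 lift) = ⟨a, Rad_le L ha⟩ * ⟨b, Rad_le L hb⟩ := rfl
      rw [h1, map_mul, ha', hb', mul_one]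
    · intro a ha ha' hx
      have h1 : (⟨a⁻¹, hx⟩ : P0 lift) = (⟨a, Rad_le L ha⟩)⁻¹ := rfl
      rw [h1, map_inv, ha', inv_one]
  exact key c hc c.2

/-- every element of `Q` lifts to the radical -/
theorem exists_lift_Q {r : SU 6 F 2} (hr : r ∈ Q F 4 hF) : ∃ x ∈ Rad lift, π x = pr 6 F 2 r := by
  refine Subgroup.closure_induction (p := fun r _ => ∃ x ∈ Rad lift, π x = pr 6 F 2 r)
    ?_ ?_ ?_ ?_ hr
  · rintro r ⟨w, hw, hwu, c, h0, h0', rfl⟩
    refine ⟨lift w * lift (w + c • u), Subgroup.subset_closure ⟨w, c, h0, h0', hw, hwu, rfl⟩, ?_⟩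
    have hw' := iso_add (m := 4) hF hw hwu c
    rw [map_mul, L.map w h0 hw, L.map _ h0' hw', tau_eq_pr hF hw, tau_eq_pr hF hw', ← map_mul]
  · exact ⟨1, one_mem _, by rw [map_one, map_one]⟩
  · rintro a b _ _ ⟨x, hx, hxa⟩ ⟨y, hy, hyb⟩
    exact ⟨x * y, mul_mem hx hy, by rw [map_mul, map_mul, hxa, hyb]⟩
  · rintro a _ ⟨x, hx, hxa⟩
    exact ⟨x⁻¹, inv_mem hx, by rw [map_inv, map_inv, hxa]⟩

/-- the line through `u` and `w` -/
theorem line_eq {w : Fin 6 → F} (hw : Adm w) {ω : F} (hω : ω ^ 2 + ω + 1 = 0) :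
    lift u * (lift w * lift (w + (1 : F) • u)) *
      (lift (w + ω • u) * lift (w + ω ^ 2 • u)) = z := by
  have h1 := L.line u w (u_ne hF) hw.ne (hu hF) hw.iso (herm_eq_zero_swap hF hw.perp) hw.indep ω hω
  rw [one_smul, add_comm w u, add_comm w (ω • u), add_comm w (ω ^ 2 • u), ← h1]
  group

/-- **The radical is the kernel.** Needs `z` in the radical. -/
theorem mem_Rad_of_lv (hz : z ∈ Rad lift) (hu' : lift u ∈ Rad lift) {c : P0 lift}
    (hc : lv L c = 1) : (c : C) ∈ Rad lift := by
  obtain ⟨r, hr, h⟩ := exists_mem_Q_of_lev (m := 4) hF (le_refl 4) hc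
  obtain ⟨x, hx, hxr⟩ := exists_lift_Q L hr
  rcases h with h | h
  · have h1 : π (c : C) = π x := by rw [hxr, ← h, pr_st]
    rcases L.ext.map_eq.1 h1 with h2 | h2
    · rw [h2]; exact hx
    · rw [h2]; exact mul_mem hx hz
  · have h1 : π (c : C) = π (x * lift u) := by
      rw [map_mul, hxr, L.map u (u_ne hF) (hu hF), tau_eq_pr hF (hu hF), ← map_mul]
      have h3 : r * T hF u (hu hF) = (st L c : SU 6 F 2) := h.symm
      rw [h3, pr_st]
    rcases L.ext.map_eq.1 h1 with h2 | h2
    · rw [h2]; exact mul_mem hx hu'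
    · rw [h2]; exact mul_mem (mul_mem hx hu') hz

end Cfsg.Agent.KFacts.FiTT.Cent

end

-- merged: Cfsg.Agent.KFacts.FiTT.Radical
section

/-!
# The centraliser of two commuting transpositions: the radical, perfectness, the centre
-/

set_option autoImplicit false
set_option linter.unusedSectionVars false

namespace Cfsg.Agent.KFacts.FiTT.Radical

open Cfsg Cfsg.Agent.LieClassical.HermBasic Cfsg.Agent.ClassicalGeometry.UnitTransv
open Cfsg.Agent.SporadicStructure.UnitTwo Cfsg.Agent.R01.PSUSix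
open Cfsg.Agent.ClassicalGeometry.UnitAutBasic (tau pr pr_surjective)
open Cfsg.Agent.R01.Lifts Cfsg.Agent.R01.Label
open Cfsg.Agent.KFacts.FiTT.Levi Cfsg.Agent.KFacts.FiTT.Cent

section Vectors

variable {F : Type*} [Field F] [Fintype F] (hF : Fintype.card F = 2 ^ 2)
include hF

theorem adm_ι {a : Fin 4 → F} (h0 : a ≠ 0) (ha : hermForm 4 F 2 a a = 0) : Adm (ι a : Fin 6 → F) where
  iso := by
    have := herm_ι_left (m := 4) a (ι a)
    rw [top_ι, ha] at this
    exact this
  perp := herm_ι_u0 (m := 4) hF a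
  indep := by
    rintro ⟨c, hc⟩
    apply h0
    have := congrArg (top (m := 4)) hc
    rwa [top_ι, Levi.top_smul, top_u0, smul_zero] at this

omit [Fintype F] hF in
/-- the vector `(1, 1, 0, 0)` -/
def ea (F : Type*) [Field F] : Fin 4 → F := ![1, 1, 0, 0]

omit [Fintype F] hF in
/-- the vector `(t, t², 0, 0)` -/
def eb {F : Type*} [Field F] (t : F) : Fin 4 → F := ![t, t ^ 2, 0, 0]

theorem herm_ea : hermForm 4 F 2 (ea F) (ea F) = 0 := by
  rw [herm_def]
  simp [ea, Fin.sum_univ_four]
  linear_combination two_eq_zero hF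

omit [Fintype F] hF in
theorem ea_ne : ea F ≠ 0 := by
  intro h
  have := congrFun h 0
  simp [ea] at this

theorem herm_ea_eb {t : F} (ht : t ^ 2 + t + 1 = 0) : hermForm 4 F 2 (ea F) (eb t) = 1 := by
  have h4 := pow_four hF t
  rw [herm_def]
  simp [ea, eb, Fin.sum_univ_four]
  linear_combination ht + h4 - two_eq_zero hF

theorem herm_eb_ea {t : F} (ht : t ^ 2 + t + 1 = 0) : hermForm 4 F 2 (eb t) (ea F) = 1 := by
  rw [herm_swap hF (ea F), herm_ea_eb hF ht, one_pow]

theorem herm_eb {t : F} (ht : t ^ 2 + t + 1 = 0) : hermForm 4 F 2 (eb t) (eb t) = 0 := by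
  have h0 : t ≠ 0 := by
    rintro rfl
    simp at ht
  have h3 := pow_three hF h0
  rw [herm_def]
  simp [eb, Fin.sum_univ_four]
  linear_combination (t ^ 3 + 2) * h3 + two_eq_zero hF

omit [Fintype F] hF in
theorem eb_ne {t : F} (h0 : t ≠ 0) : eb t ≠ 0 := by
  intro h
  have := congrFun h 0
  simp [eb] at this
  exact h0 this

/-- a stabiliser element scaling an isotropic vector -/
theorem exists_scale {t : F} (ht0 : t ≠ 0) :
    ∃ g ∈ Stab F 4, act g (ι (ea F) : Fin 6 → F) = t • (ι (ea F) : Fin 6 → F) := by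
  by_cases ht1 : t = 1
  · subst ht1
    exact ⟨1, one_mem _, by rw [act_one, one_smul]⟩
  have ht : t ^ 2 + t + 1 = 0 := by
    have h3 := pow_three hF ht0
    have : (t - 1) * (t ^ 2 + t + 1) = 0 := by linear_combination h3
    rcases mul_eq_zero.1 this with h | h
    · exact absurd (by linear_combination h) ht1
    · exact h
  have h2 := two_eq_zero hF
  have h4 := pow_four hF t
  -- the vectors `a`, `b`, `c = a + t b + y`
  have hg : ∃ g0 : SU 4 F 2, act g0 (ea F) = t • ea F := by
    set a := ea F with ha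
    set b := eb t with hb
    set y : Fin 4 → F := ![0, 0, 1, 0] with hy
    have haa : hermForm 4 F 2 a a = 0 := herm_ea hF
    have hbb : hermForm 4 F 2 b b = 0 := herm_eb hF ht
    have hab : hermForm 4 F 2 a b = 1 := herm_ea_eb hF ht
    have hba : hermForm 4 F 2 b a = 1 := herm_eb_ea hF ht
    have hyy : hermForm 4 F 2 y y = 1 := by
      rw [herm_def]; simp [hy, Fin.sum_univ_four]
    have hay : hermForm 4 F 2 a y = 0 := by
      rw [herm_def]; simp [ha, hy, ea, Fin.sum_univ_four]
    have hby : hermForm 4 F 2 b y = 0 := by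
      rw [herm_def]; simp [hb, hy, eb, Fin.sum_univ_four]
    have hya := herm_eq_zero_swap hF hay
    have hyb := herm_eq_zero_swap hF hby
    set c := a + t • b + y with hc
    have hcc : hermForm 4 F 2 c c = 0 := by
      rw [hc]
      simp only [herm_add_left, herm_add_right hF, herm_smul_left, herm_smul_right, haa, hbb, hab,
        hba, hyy, hay, hby, hya, hyb, mul_zero, zero_add, add_zero, mul_one]
      linear_combination ht
    have hbc : hermForm 4 F 2 b c = 1 := by
      rw [hc]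
      simp only [herm_add_right hF, herm_smul_right, hbb, hba, hby, mul_zero, add_zero]
    have hcb : hermForm 4 F 2 c b = 1 := by rw [herm_swap hF b, hbc, one_pow]
    have hca : hermForm 4 F 2 c a = t := by
      rw [hc]
      simp only [herm_add_left, herm_smul_left, haa, hba, hya, mul_one, zero_add, add_zero]
    have hac : hermForm 4 F 2 a c = t ^ 2 := by rw [herm_swap hF c, hca]
    have e1 : hermForm 4 F 2 (a + b) (a + b) = 0 := by
      simp only [herm_add_left, herm_add_right hF, haa, hbb, hab, hba]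
      linear_combination h2
    have e2 : hermForm 4 F 2 (b + c) (b + c) = 0 := by
      simp only [herm_add_left, herm_add_right hF, hbb, hcc, hbc, hcb]
      linear_combination h2
    have e3 : hermForm 4 F 2 (c + t • a) (c + t • a) = 0 := by
      simp only [herm_add_left, herm_add_right hF, herm_smul_left, herm_smul_right, haa, hcc, hca,
        hac]
      linear_combination t ^ 3 * h2
    refine ⟨T hF _ e3 * (T hF _ e2 * T hF _ e1), ?_⟩
    have f1 : act (T hF _ e1) a = b := by
      rw [act_T, herm_add_right hF, haa, hab, zero_add, one_smul, ← add_assoc, vadd_self hF,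
        zero_add]
    have f2 : act (T hF _ e2) b = c := by
      rw [act_T, herm_add_right hF, hbb, hbc, zero_add, one_smul, ← add_assoc, vadd_self hF,
        zero_add]
    have f3 : act (T hF _ e3) c = t • a := by
      rw [act_T, herm_add_right hF, herm_smul_right, hcc, hca, zero_add]
      have : t ^ 2 * t = 1 := by
        have h3 := pow_three hF ht0
        linear_combination h3
      rw [this, one_smul, ← add_assoc, vadd_self hF, zero_add]
    rw [act_mul, act_mul, f1, f2, f3]
  obtain ⟨g0, hg0⟩ := hg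
  refine ⟨emb 2 g0, emb_mem (m := 4) hF g0, ?_⟩
  have h1 : act (emb 2 g0) (Fin.append (ea F) 0) = Fin.append (act g0 (ea F)) 0 := act_emb _ _ _
  rw [hg0] at h1
  exact h1.trans (ι_smul (m := 4) t (ea F))

/-- transitivity on the admissible vectors -/
theorem exists_stab_map {w w' : Fin 6 → F} (hw : Adm w) (hw' : Adm w') :
    ∃ g ∈ Stab F 4, ∃ s : F, s ≠ 0 ∧ act g w = s • w' := by
  obtain ⟨r, hr, c, hc, h⟩ := trans_perp hF (u_ne hF) hw.iso hw'.iso hw.perp hw'.perp hw.indep
    hw'.indep (hu hF)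
  exact ⟨r, Ru_le_Stab (m := 4) hF hr, c, hc, h⟩

theorem adm_a : Adm (ι (ea F) : Fin 6 → F) := adm_ι hF ea_ne (herm_ea hF)

/-- transitivity on the admissible vectors, exact -/
theorem exists_stab_map' {w w' : Fin 6 → F} (hw : Adm w) (hw' : Adm w') {t : F} (ht : t ≠ 0) :
    ∃ g ∈ Stab F 4, act g w = t • w' := by
  obtain ⟨g, hg, s, hs, hgw⟩ := exists_stab_map hF hw (adm_a hF)
  obtain ⟨g', hg', s', hs', hgw'⟩ := exists_stab_map hF (adm_a hF) hw'
  obtain ⟨k, hk, hka⟩ := exists_scale hF (t := t * s⁻¹ * s'⁻¹)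
    (mul_ne_zero (mul_ne_zero ht (inv_ne_zero hs)) (inv_ne_zero hs'))
  refine ⟨g' * (k * g), mul_mem hg' (mul_mem hk hg), ?_⟩
  rw [act_mul, act_mul, hgw, act_smul, hka, act_smul, act_smul, hgw', smul_smul, smul_smul]
  congr 1
  field_simp

end Vectors

variable {C : Type*} [Group C] {F : Type*} [Field F] [Fintype F] {hF : Fintype.card F = 2 ^ 2}
  {π : C →* PSU 6 F 2} {z : C} {lift : (Fin 6 → F) → C}

/-- the relation of a heptad: three pairs of transpositions in three blocks -/
def Hept (lift : (Fin 6 → F) → C) (z : C) : Prop := ∃ a b c : Fin 6 → F, Adm a ∧ Adm b ∧ Adm c ∧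
  lift a * lift (a + (1 : F) • u) * (lift b * lift (b + (1 : F) • u)) *
    (lift c * lift (c + (1 : F) • u)) = z

variable (L : Lab hF π z z lift)
include L

theorem z_mem_Rad (H : Hept lift z) : z ∈ Rad lift := by
  obtain ⟨a, b, c, ha, hb, hc, h⟩ := H
  rw [← h]
  exact mul_mem (mul_mem (pair_mem_Rad ha rfl (ha.add hF 1).ne) (pair_mem_Rad hb rfl (hb.add hF 1).ne))
    (pair_mem_Rad hc rfl (hc.add hF 1).ne)

theorem u_mem_Rad (H : Hept lift z) : lift u ∈ Rad lift := by
  obtain ⟨ω, hω⟩ := exists_omega hF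
  have ha := adm_a hF
  have h1 := line_eq L ha hω
  have h2 : lift (u : Fin 6 → F) = z * (lift (ι (ea F)) * lift (ι (ea F) + (1 : F) • u) *
      (lift (ι (ea F) + ω • u) * lift (ι (ea F) + ω ^ 2 • u)))⁻¹ := by
    rw [← h1]; group
  rw [h2]
  refine mul_mem (z_mem_Rad L H) (inv_mem (mul_mem (pair_mem_Rad ha rfl (ha.add hF 1).ne)
    (pair_mem_Rad (c := 1) (ha.add hF ω) ?_ (ha.add hF (ω ^ 2)).ne)))
  rw [add_assoc, ← add_smul]
  congr 2
  linear_combination hω - (1 + ω) * two_eq_zero hF

/-! ### Conjugacy -/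

/-- conjugacy of the admissible transpositions, with a scalar -/
theorem exists_conj_scale {w w' : Fin 6 → F} (hw : Adm w) (hw' : Adm w') {t : F} (ht : t ≠ 0) :
    ∃ c : P0 lift, act (st L c : SU 6 F 2) w = t • w' := by
  obtain ⟨g, hg, h⟩ := exists_stab_map' hF hw hw' ht
  obtain ⟨c, hc⟩ := st_surjective L ⟨g, hg⟩
  exact ⟨c, by rw [hc, h]⟩

/-- conjugacy of the pairs in a block -/
theorem exists_conj_pair {w w' : Fin 6 → F} (hw : Adm w) (hw' : Adm w') {k k' : F} (hk : k ≠ 0)
    (hk' : k' ≠ 0) : ∃ c ∈ P0 lift, c * lift w * c⁻¹ = lift w' ∧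
      c * lift (w + k • u) * c⁻¹ = lift (w' + k' • u) := by
  obtain ⟨c, hc⟩ := exists_conj_scale L hw hw' (mul_ne_zero hk (inv_ne_zero hk'))
  have hne : k * k'⁻¹ ≠ 0 := mul_ne_zero hk (inv_ne_zero hk')
  refine ⟨c, c.2, ?_, ?_⟩
  · rw [conj_lift L c hw.ne hw.iso, hc, L.smul w' _ hw'.iso hne]
  · rw [conj_lift L c (hw.add hF k).ne (hw.add hF k).iso, act_add, act_smul, act_st, hc]
    have h1 : (k * k'⁻¹) • w' + k • (u : Fin 6 → F) = (k * k'⁻¹) • (w' + k' • u) := by
      rw [smul_add, smul_smul, mul_assoc, inv_mul_cancel₀ hk', mul_one]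
    rw [h1, L.smul _ _ (hw'.add hF k').iso hne]

theorem exists_conj {w w' : Fin 6 → F} (hw : Adm w) (hw' : Adm w') :
    ∃ c ∈ P0 lift, c * lift w * c⁻¹ = lift w' := by
  obtain ⟨c, hc, h, -⟩ := exists_conj_pair L hw hw' (one_ne_zero (α := F)) (one_ne_zero (α := F))
  exact ⟨c, hc, h⟩

/-! ### Generation -/

omit L in
/-- the generators of `P0` -/
def gens (lift : (Fin 6 → F) → C) : Set C := {x | x = lift u ∨ ∃ w, Adm w ∧ x = lift w}

theorem gens_of {w : Fin 6 → F} (h0 : w ≠ 0) (hw : hermForm 6 F 2 w w = 0)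
    (hwu : hermForm 6 F 2 w u = 0) : lift w ∈ gens lift := by
  by_cases h : ∃ c : F, w = c • u
  · obtain ⟨c, rfl⟩ := h
    left
    refine L.smul u c (hu hF) ?_
    rintro rfl
    exact h0 (zero_smul _ _)
  · exact Or.inr ⟨w, ⟨hw, hwu, h⟩, rfl⟩

theorem P0_eq_closure : P0 lift = Subgroup.closure (gens lift) := by
  apply le_antisymm
  · intro c hc
    have huu := hu (F := F) hF
    have hu0 := u_ne (F := F) hF
    have h1 : π c ∈ Subgroup.centralizer ({tau hF (u : Fin 6 → F)} : Set (PSU 6 F 2)) := by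
      rw [Subgroup.mem_centralizer_singleton_iff, ← L.map u hu0 huu, ← map_mul, ← map_mul,
        mem_P0.1 hc]
    have h2 := centralizer_le hF _ (tau_mem hF hu0 huu) h1
    have h3 : ∀ y ∈ Subgroup.closure (TT hF 6 ∩ {x | Commute (tau hF (u : Fin 6 → F)) x}),
        ∃ x ∈ Subgroup.closure (gens lift), π x = y := by
      intro y hy
      refine Subgroup.closure_induction
        (p := fun y _ => ∃ x ∈ Subgroup.closure (gens lift), π x = y) ?_ ?_ ?_ ?_ hy
      · rintro y ⟨⟨w, hw0, hw, rfl⟩, hc⟩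
        refine ⟨lift w, Subgroup.subset_closure (gens_of L hw0 hw ?_), L.map w hw0 hw⟩
        exact herm_eq_zero_swap hF ((tau_commute_iff hF (by norm_num) huu hw hu0).1 hc)
      · exact ⟨1, one_mem _, map_one _⟩
      · rintro a b _ _ ⟨x, hx, rfl⟩ ⟨y, hy, rfl⟩
        exact ⟨x * y, mul_mem hx hy, map_mul _ _ _⟩
      · rintro a _ ⟨x, hx, rfl⟩
        exact ⟨x⁻¹, inv_mem hx, map_inv _ _⟩
    have hz : z ∈ Subgroup.closure (gens lift) := by
      obtain ⟨ω, hω⟩ := exists_omega hF
      have ha := adm_a hF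
      rw [← line_eq L ha hω]
      have h5 : ∀ k : F, lift (ι (ea F) + k • u) ∈ Subgroup.closure (gens lift) := fun k =>
        Subgroup.subset_closure (Or.inr ⟨_, ha.add hF k, rfl⟩)
      exact mul_mem (mul_mem (Subgroup.subset_closure (Or.inl rfl)) (mul_mem
        (Subgroup.subset_closure (Or.inr ⟨_, ha, rfl⟩)) (h5 1))) (mul_mem (h5 ω) (h5 (ω ^ 2)))
    obtain ⟨x, hx, hxc⟩ := h3 _ h2
    rcases L.ext.map_eq.1 hxc.symm with h | h
    · rw [h]; exact hx
    · rw [h]; exact mul_mem hx hz
  · rw [Subgroup.closure_le]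
    rintro x (rfl | ⟨w, hw, rfl⟩)
    · exact mem_P0.2 rfl
    · exact lift_mem L hw.ne hw.iso hw.perp

/-! ### The action of the radical -/

/-- an element of the radical moves the transpositions inside the blocks -/
theorem exists_param {x : C} (hx : x ∈ Rad lift) : ∃ a : Fin 4 → F, ∀ w, Adm w →
    x * lift w * x⁻¹ = lift (w + hermForm 4 F 2 (top (m := 4) w) a • u) := by
  have hP := Rad_le L hx
  have h1 : lev (m := 4) hF (le_refl 4) (st L ⟨x, hP⟩) = 1 :=
    lv_of_mem_Rad L (c := ⟨x, hP⟩) hx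
  obtain ⟨a, ha0, ha⟩ := exists_par (m := 4) hF (le_refl 4) h1
  refine ⟨a, fun w hw => ?_⟩
  rw [conj_lift L ⟨x, hP⟩ hw.ne hw.iso]
  congr 1
  have h2 := perp_eq (m := 4) hF hw.perp
  conv_lhs => rw [h2]
  conv_rhs => rw [h2]
  rw [act_add, act_smul, ha, act_st]
  have h3 : top (m := 4) (ι (top (m := 4) w) + w (Fin.natAdd 4 (0 : Fin 2)) • (u : Fin 6 → F)) =
      top (m := 4) w := by rw [← h2]
  rw [h3]
  abel

/-- the line through `u` and `w`, general form -/
theorem line_gen {w : Fin 6 → F} (hw : Adm w) {c s : F} (hc : c ≠ 0) (hs : s ≠ 0) (hsc : s ≠ c) :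
    lift u * lift w * lift (w + c • u) * lift (w + s • u) * lift (w + (s + c) • u) = z := by
  have hω : (s * c⁻¹) ^ 2 + s * c⁻¹ + 1 = 0 := by
    have h0 : s * c⁻¹ ≠ 0 := mul_ne_zero hs (inv_ne_zero hc)
    have h3 := pow_three hF h0
    have h1 : s * c⁻¹ - 1 ≠ 0 := by
      intro h
      apply hsc
      have : s * c⁻¹ = 1 := by linear_combination h
      field_simp at this
      exact this
    have : (s * c⁻¹ - 1) * ((s * c⁻¹) ^ 2 + s * c⁻¹ + 1) = 0 := by linear_combination h3
    exact (mul_eq_zero.1 this).resolve_left h1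
  have hcu0 : c • (u : Fin 6 → F) ≠ 0 := smul_ne_zero hc (u_ne hF)
  have h1 := L.line (c • u) w hcu0 hw.ne (herm_smul_self hF (hu hF) c) hw.iso
    (by rw [herm_smul_left, herm_eq_zero_swap hF hw.perp, mul_zero])
    (by
      rintro ⟨k, hk⟩
      exact hw.indep ⟨k * c, by rw [hk, smul_smul]⟩) (s * c⁻¹) hω
  rw [L.smul u c (hu hF) hc, smul_smul, smul_smul, mul_assoc s, inv_mul_cancel₀ hc, mul_one,
    add_comm (c • u) w, add_comm (s • u) w, add_comm (((s * c⁻¹) ^ 2 * c) • u) w] at h1
  have h2 : (s * c⁻¹) ^ 2 * c = s + c := by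
    have : (s * c⁻¹) ^ 2 * c = -(s * c⁻¹ * c) - c := by linear_combination c * hω
    rw [this, mul_assoc, inv_mul_cancel₀ hc, mul_one]
    linear_combination (-s - c) * two_eq_zero hF
  rw [h2] at h1
  exact h1

omit L in
/-- the element `z' = z * lift u` -/
def zz (lift : (Fin 6 → F) → C) (z : C) : C := z * lift u

theorem comm_lift {w w' : Fin 6 → F} (hw : Adm w) (hw' : Adm w')
    (h : hermForm 6 F 2 w w' = 0) : lift w * lift w' = lift w' * lift w :=
  (L.commute_iff hw.iso hw'.iso hw.ne hw'.ne).2 h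

theorem comm_block {w : Fin 6 → F} (hw : Adm w) (c c' : F) :
    lift (w + c • u) * lift (w + c' • u) = lift (w + c' • u) * lift (w + c • u) := by
  apply comm_lift L (hw.add hF c) (hw.add hF c')
  rw [herm_add_left, herm_add_right hF, herm_add_right hF, herm_smul_right, herm_smul_left,
    herm_smul_left, herm_smul_right, hw.iso, hw.perp, herm_eq_zero_swap hF hw.perp, hu hF]
  ring

theorem comm_u {w : Fin 6 → F} (hw : Adm w) : lift u * lift w = lift w * lift u :=
  (L.commute_iff (hu hF) hw.iso (u_ne hF) hw.ne).2 (herm_eq_zero_swap hF hw.perp)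

theorem sq_adm {w : Fin 6 → F} (hw : Adm w) : lift w * lift w = 1 := L.sq w hw.ne hw.iso

theorem uu : lift (u : Fin 6 → F) * lift u = 1 := L.sq u (u_ne hF) (hu hF)

/-- the product of the four members of a block -/
theorem four {w : Fin 6 → F} (hw : Adm w) {c s : F} (hc : c ≠ 0) (hs : s ≠ 0) (hsc : s ≠ c) :
    lift (w + s • u) * lift (w + (s + c) • u) * (lift w * lift (w + c • u)) = zz lift z := by
  have h := line_gen L hw hc hs hsc
  have h0 : lift w = lift (w + (0 : F) • u) := by rw [zero_smul, add_zero]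
  have e1 : lift w * lift (w + s • u) = lift (w + s • u) * lift w := by
    rw [h0]; exact comm_block L hw 0 s
  have e2 : lift w * lift (w + (s + c) • u) = lift (w + (s + c) • u) * lift w := by
    rw [h0]; exact comm_block L hw 0 (s + c)
  have e3 := comm_block L hw c s
  have e4 := comm_block L hw c (s + c)
  have h1 : lift u * (lift (w + s • u) * lift (w + (s + c) • u) * (lift w * lift (w + c • u))) =
      z := by
    rw [← h]
    calc lift u * (lift (w + s • u) * lift (w + (s + c) • u) * (lift w * lift (w + c • u)))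
        = lift u * (lift (w + s • u) * (lift (w + (s + c) • u) * lift w) * lift (w + c • u)) := by
          group
      _ = lift u * (lift (w + s • u) * (lift w * lift (w + (s + c) • u)) * lift (w + c • u)) := by
          rw [e2]
      _ = lift u * ((lift (w + s • u) * lift w) * (lift (w + (s + c) • u) * lift (w + c • u))) := by
          group
      _ = lift u * ((lift w * lift (w + s • u)) * (lift (w + c • u) * lift (w + (s + c) • u))) := by
          rw [e1, e4]
      _ = lift u * (lift w * (lift (w + s • u) * lift (w + c • u)) * lift (w + (s + c) • u)) := by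
          group
      _ = lift u * (lift w * (lift (w + c • u) * lift (w + s • u)) * lift (w + (s + c) • u)) := by
          rw [e3]
      _ = _ := by group
  have h2 : lift (w + s • u) * lift (w + (s + c) • u) * (lift w * lift (w + c • u)) =
      lift u * z := by
    rw [← h1, ← mul_assoc (lift u), uu L, one_mul]
  rw [h2, zz]
  exact L.ext.comm _

theorem zz_sq : zz lift z * zz lift z = 1 := by
  calc z * lift u * (z * lift u) = z * (lift u * z) * lift u := by group
    _ = z * (z * lift u) * lift u := by rw [L.ext.comm (lift u)]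
    _ = (z * z) * (lift u * lift u) := by group
    _ = 1 := by rw [L.ext.zz, uu L, mul_one]

theorem zz_comm {c : C} (hc : c ∈ P0 lift) : c * zz lift z = zz lift z * c := by
  rw [zz, ← mul_assoc, L.ext.comm c, mul_assoc, mem_P0.1 hc, mul_assoc]

/-- commutators with the generators of the radical -/
theorem comm_gen {x : C} (hx : x ∈ Rad lift) {w : Fin 6 → F} (hw : Adm w) (c : F) :
    x * (lift w * lift (w + c • u)) * x⁻¹ * (lift w * lift (w + c • u))⁻¹ = 1 ∨
    x * (lift w * lift (w + c • u)) * x⁻¹ * (lift w * lift (w + c • u))⁻¹ = zz lift z := by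
  obtain ⟨a, ha⟩ := exists_param L hx
  set s := hermForm 4 F 2 (top (m := 4) w) a with hs
  have h1 : x * (lift w * lift (w + c • u)) * x⁻¹ =
      lift (w + s • u) * lift (w + (s + c) • u) := by
    have e1 := ha w hw
    have e2 := ha _ (hw.add hF c)
    rw [Levi.top_add, Levi.top_smul, top_u0, smul_zero, add_zero, ← hs] at e2
    calc x * (lift w * lift (w + c • u)) * x⁻¹ =
        (x * lift w * x⁻¹) * (x * lift (w + c • u) * x⁻¹) := by group
      _ = _ := by
        rw [e1, e2]
        congr 2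
        rw [add_assoc, ← add_smul, add_comm c s]
  have h2 : (lift w * lift (w + c • u))⁻¹ = lift w * lift (w + c • u) := by
    rw [mul_inv_rev, inv_eq_of_mul_eq_one_left (sq_adm L hw),
      inv_eq_of_mul_eq_one_left (sq_adm L (hw.add hF c))]
    have := comm_block L hw c 0
    rw [zero_smul, add_zero] at this
    exact this
  rw [h1, h2]
  have hsq := sq_adm L hw
  by_cases hc : c = 0
  · left
    subst hc
    rw [zero_smul, add_zero, add_zero, hsq, mul_one, sq_adm L (hw.add hF s)]
  by_cases hs0 : s = 0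
  · left
    rw [hs0, zero_smul, add_zero, zero_add]
    have h3 := inv_mul_cancel (lift w * lift (w + c • u))
    rwa [h2] at h3
  by_cases hsc : s = c
  · left
    have e : s + c = 0 := by rw [hsc]; exact add_self hF c
    have h3 := comm_block L hw c 0
    rw [zero_smul, add_zero] at h3
    rw [e, zero_smul, add_zero, hsc, h3]
    have h4 := inv_mul_cancel (lift w * lift (w + c • u))
    rwa [h2] at h4
  · right
    exact four L hw hc hs0 hsc

/-- **`Rad' ≤ ⟨z'⟩`** -/
theorem comm_Rad {x y : C} (hx : x ∈ Rad lift) (hy : y ∈ Rad lift) :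
    x * y * x⁻¹ * y⁻¹ = 1 ∨ x * y * x⁻¹ * y⁻¹ = zz lift z := by
  have key : x * y * x⁻¹ * y⁻¹ ∈ Subgroup.zpowers (zz lift z) := by
    refine Subgroup.closure_induction
      (p := fun y _ => x * y * x⁻¹ * y⁻¹ ∈ Subgroup.zpowers (zz lift z)) ?_ ?_ ?_ ?_ hy
    · rintro y ⟨w, c, h0, h0', hw, hwu, rfl⟩
      by_cases h : ∃ k : F, w = k • u
      · obtain ⟨k, rfl⟩ := h
        have hk : k ≠ 0 := by
          rintro rfl
          exact h0 (zero_smul _ _)
        have hkc : k + c ≠ 0 := by
          intro h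
          apply h0'
          rw [← add_smul, h, zero_smul]
        have h1 : lift (k • u) * lift (k • u + c • u) = (1 : C) := by
          rw [← add_smul, L.smul u k (hu hF) hk, L.smul u (k + c) (hu hF) hkc, uu L]
        rw [h1, mul_one, mul_inv_cancel, inv_one, mul_one]
        exact one_mem _
      · rcases comm_gen L hx ⟨hw, hwu, h⟩ c with h | h
        · rw [h]; exact one_mem _
        · rw [h]; exact Subgroup.mem_zpowers _
    · rw [mul_one, mul_inv_cancel, inv_one, mul_one]; exact one_mem _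
    · intro a b ha _ ha' hb'
      obtain ⟨k, hk⟩ := Subgroup.mem_zpowers_iff.1 hb'
      have h2 : x * (a * b) * x⁻¹ * (a * b)⁻¹ =
          (x * a * x⁻¹ * a⁻¹) * (a * (x * b * x⁻¹ * b⁻¹) * a⁻¹) := by group
      have h3 : Commute a (zz lift z) := zz_comm L (Rad_le L ha)
      have h4 : a * (x * b * x⁻¹ * b⁻¹) * a⁻¹ = x * b * x⁻¹ * b⁻¹ := by
        rw [← hk, (h3.zpow_right k).eq, mul_inv_cancel_right]
      rw [h2, h4]
      exact mul_mem ha' hb'
    · intro a ha ha'
      obtain ⟨k, hk⟩ := Subgroup.mem_zpowers_iff.1 ha'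
      have h2 : x * a⁻¹ * x⁻¹ * a⁻¹⁻¹ = (a⁻¹ * (x * a * x⁻¹ * a⁻¹) * a)⁻¹ := by group
      have h3 : Commute a⁻¹ (zz lift z) := zz_comm L (Rad_le L (inv_mem ha))
      have h4 : a⁻¹ * (x * a * x⁻¹ * a⁻¹) * a = x * a * x⁻¹ * a⁻¹ := by
        rw [← hk, (h3.zpow_right k).eq, inv_mul_cancel_right]
      rw [h2, h4]
      exact inv_mem ha'
  obtain ⟨k, hk⟩ := Subgroup.mem_zpowers_iff.1 key
  rcases Int.even_or_odd k with ⟨m, rfl⟩ | ⟨m, rfl⟩
  · left
    rw [← hk, ← two_mul, zpow_mul, zpow_ofNat, pow_two, zz_sq L, one_zpow]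
  · right
    rw [← hk, zpow_add, zpow_mul, zpow_ofNat, pow_two, zz_sq L, one_zpow, one_mul, zpow_one]

end Cfsg.Agent.KFacts.FiTT.Radical

end

-- merged: Cfsg.Agent.KFacts.FiTT.Radical2
section

/-!
# The centraliser of two commuting transpositions: normal subgroups, perfectness, the quotient
-/

set_option autoImplicit false
set_option linter.unusedSectionVars false

namespace Cfsg.Agent.KFacts.FiTT.Radical

open Cfsg Cfsg.Agent.LieClassical.HermBasic Cfsg.Agent.ClassicalGeometry.UnitTransv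
open Cfsg.Agent.SporadicStructure.UnitTwo Cfsg.Agent.R01.PSUSix
open Cfsg.Agent.ClassicalGeometry.UnitAutBasic (tau pr pr_surjective exists_scalar_of_mem_center)
open Cfsg.Agent.R01.Lifts Cfsg.Agent.R01.Label
open Cfsg.Agent.KFacts.FiTT.Levi Cfsg.Agent.KFacts.FiTT.Cent
open scoped commutatorElement

section Quot

variable {F : Type*} [Field F] [Fintype F] (hF : Fintype.card F = 2 ^ 2)
include hF

theorem center_SU_four : Subgroup.center (SU 4 F 2) = ⊥ := by
  rw [eq_bot_iff]
  intro g hg
  obtain ⟨c, hc4, hc3, rfl⟩ :=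
    (Cfsg.Agent.LieClassical.SUBasic.mem_center_SU_iff hF (by norm_num) g).1 hg
  have hc : c = 1 := by linear_combination hc4 - c * hc3
  subst hc
  rw [Subgroup.mem_bot]
  apply ext_act
  intro v
  rw [act_def, Cfsg.Agent.LieClassical.SUBasic.coe_suScalar, act_one]
  funext i
  rw [Matrix.mulVec_diagonal, one_mul]

/-- `SU 4 F 2` is isomorphic to `PSU 4 F 2` -/
noncomputable def suEquiv : SU 4 F 2 ≃* PSU 4 F 2 :=
  MulEquiv.ofBijective (pr 4 F 2) ⟨by
    rw [injective_iff_map_eq_one]
    intro g hg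
    have h1 : g ∈ Subgroup.center (SU 4 F 2) := (QuotientGroup.eq_one_iff g).1 hg
    rwa [center_SU_four hF, Subgroup.mem_bot] at h1, pr_surjective⟩

theorem isSimple_SU_four : IsSimpleGroup (SU 4 F 2) := by
  have : IsSimpleGroup (PSU 4 F 2) :=
    Cfsg.Agent.S0283.result (q := 2) hF 4 (by norm_num) (by norm_num)
  exact (suEquiv hF).isSimpleGroup

theorem mem_center_of_T {g : SU 4 F 2} (h : ∀ (v : Fin 4 → F) (hv : hermForm 4 F 2 v v = 0), v ≠ 0 →
    g * T hF v hv = T hF v hv * g) : g = 1 := by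
  have h1 : g ∈ Subgroup.center (SU 4 F 2) := by
    rw [Subgroup.mem_center_iff]
    intro k
    have hk : k ∈ R (n := 4) hF := by rw [R_eq_top hF (le_refl 4)]; trivial
    have hle : R (n := 4) hF ≤ Subgroup.centralizer ({g} : Set (SU 4 F 2)) := by
      unfold R
      rw [Subgroup.closure_le]
      rintro _ ⟨v, hv, hv0, rfl⟩
      rw [SetLike.mem_coe, Subgroup.mem_centralizer_singleton_iff]
      exact (h v hv hv0).symm
    exact Subgroup.mem_centralizer_singleton_iff.1 (hle hk)
  rwa [center_SU_four hF, Subgroup.mem_bot] at h1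

/-- a vector orthogonal to all isotropic vectors vanishes -/
theorem eq_zero_of_iso {a : Fin 4 → F} (h : ∀ y : Fin 4 → F, y ≠ 0 → hermForm 4 F 2 y y = 0 →
    hermForm 4 F 2 y a = 0) : a = 0 := by
  obtain ⟨ω, hω⟩ := exists_omega hF
  have hω0 : ω ≠ 0 := by
    rintro rfl
    simp at hω
  funext i
  obtain ⟨j, hj⟩ : ∃ j : Fin 4, j ≠ i := exists_ne i
  have hi : ∀ s : F, s ≠ 0 → s * a i ^ 2 + a j ^ 2 = 0 := by
    intro s hs
    have h1 := h (Pi.single i s + Pi.single j 1) ?_ ?_
    · rw [herm_add_left, herm_single_left, herm_single_left, one_mul] at h1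
      exact h1
    · intro h0
      have := congrFun h0 i
      rw [Pi.add_apply, Pi.single_eq_same, Pi.single_eq_of_ne hj.symm, add_zero, Pi.zero_apply]
        at this
      exact hs this
    · rw [herm_add_left, herm_single_left, herm_single_left]
      simp only [Pi.add_apply, Pi.single_eq_same, Pi.single_eq_of_ne hj, Pi.single_eq_of_ne hj.symm,
        add_zero, zero_add]
      have h3 := pow_three hF hs
      linear_combination h3 + two_eq_zero hF
  have h1 := hi 1 one_ne_zero
  have h2 := hi ω hω0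
  have h3 : (ω - 1) * a i ^ 2 = 0 := by linear_combination h2 - h1
  rcases mul_eq_zero.1 h3 with h4 | h4
  · exfalso
    have h5 : ω = 1 := by linear_combination h4
    rw [h5] at hω
    have h6 := two_eq_zero hF
    exact one_ne_zero (α := F) (by linear_combination hω - h6)
  · exact pow_eq_zero_iff (two_ne_zero) |>.1 h4

end Quot

variable {C : Type*} [Group C] {F : Type*} [Field F] [Fintype F] {hF : Fintype.card F = 2 ^ 2}
  {π : C →* PSU 6 F 2} {z : C} {lift : (Fin 6 → F) → C}

variable (L : Lab hF π z z lift)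
include L

/-- equality of two transpositions of the same block -/
theorem lift_block_eq {w : Fin 6 → F} (hw : Adm w) {c : F} (h : lift (w + c • u) = lift w) :
    c = 0 := by
  obtain ⟨k, hk0, hk⟩ := (L.lift_eq_iff (hw.add hF c).iso hw.iso (hw.add hF c).ne hw.ne).1 h
  by_contra hc
  by_cases hk1 : k = 1
  · subst hk1
    rw [one_smul] at hk
    have h1 : c • (u : Fin 6 → F) = 0 := by
      have := congrArg (fun x => x - w) hk
      simpa using this.symm
    rcases smul_eq_zero.1 h1 with h2 | h2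
    · exact hc h2
    · exact u_ne hF h2
  · apply hw.indep
    refine ⟨(1 - k)⁻¹ * (k * c), ?_⟩
    have h1 : (1 - k) • w = (k * c) • (u : Fin 6 → F) := by
      rw [sub_smul, one_smul]
      conv_lhs => lhs; rw [hk]
      rw [smul_add, smul_smul]
      abel
    have h2 : (1 - k) ≠ 0 := fun h => hk1 (by linear_combination -h)
    rw [mul_smul, ← h1, smul_smul, inv_mul_cancel₀ h2, one_smul]

/-- **The centre of `P0`.** -/
theorem eq_of_comm {c : C} (hc : c ∈ P0 lift) (h : ∀ w, Adm w → c * lift w = lift w * c) :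
    c = 1 ∨ c = z ∨ c = lift u ∨ c = zz lift z := by
  have h1 : lv L ⟨c, hc⟩ = 1 := by
    apply mem_center_of_T hF
    intro v hv hv0
    have ha := adm_ι hF hv0 hv
    have h2 := congrArg (lv L) (Subtype.ext (h _ ha) :
      (⟨c, hc⟩ : P0 lift) * ⟨lift (ι v), lift_mem L ha.ne ha.iso ha.perp⟩ =
        ⟨lift (ι v), lift_mem L ha.ne ha.iso ha.perp⟩ * ⟨c, hc⟩)
    rw [map_mul, map_mul, lv_lift L ha.ne ha.iso ha.perp] at h2
    have h3 : T hF (top (m := 4) (ι v)) (top_iso (m := 4) hF ha.iso ha.perp) = T hF v hv := by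
      apply ext_act
      intro x
      rw [act_T, act_T, top_ι]
    rwa [h3] at h2
  obtain ⟨a, ha0, ha⟩ := exists_par (m := 4) hF (le_refl 4) h1
  have ha1 : a = 0 := by
    apply eq_zero_of_iso hF
    intro y hy0 hy
    have hA := adm_ι hF hy0 hy
    have h2 := conj_lift L ⟨c, hc⟩ hA.ne hA.iso
    rw [ha] at h2
    have h3 : c * lift (ι y) * c⁻¹ = lift (ι y) := by rw [h _ hA, mul_inv_cancel_right]
    exact lift_block_eq L hA (h2.symm.trans h3)
  rw [ha1] at ha
  have hpar : Par (st L ⟨c, hc⟩ : SU 6 F 2) (0 : Fin 4 → F) := ⟨ha0, ha⟩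
  rcases eq_of_par_zero (m := 4) hF (by norm_num) hpar with h2 | h2
  · have h3 : st L ⟨c, hc⟩ = 1 := Subtype.ext h2
    rcases (st_eq_one_iff L _).1 h3 with h4 | h4
    · exact Or.inl h4
    · exact Or.inr (Or.inl h4)
  · have h3 : st L ⟨c, hc⟩ = st L ⟨lift u, mem_P0.2 rfl⟩ := by
      rw [st_eq L (c := ⟨lift u, mem_P0.2 rfl⟩) (T_mem_Stab (m := 4) hF (hu hF) (hu hF))
        ((L.map u (u_ne hF) (hu hF)).trans (tau_eq_pr hF (hu hF)))]
      exact Subtype.ext h2
    have h4 : st L (⟨c, hc⟩ * ⟨lift u, mem_P0.2 rfl⟩) = 1 := by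
      rw [map_mul, h3, ← map_mul]
      have : (⟨lift u, mem_P0.2 rfl⟩ * ⟨lift u, mem_P0.2 rfl⟩ : P0 lift) = 1 :=
        Subtype.ext (uu L)
      rw [this, map_one]
    rcases (st_eq_one_iff L _).1 h4 with h5 | h5
    · right; right; left
      have h6 : c * lift u = 1 := h5
      rw [← inv_eq_of_mul_eq_one_left h6, inv_eq_of_mul_eq_one_left (uu L)]
    · right; right; right
      have h6 : c * lift u = z := h5
      rw [zz, ← h6, mul_assoc, uu L, mul_one]

/-- the element `z` commutes with everything -/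
theorem central_of {c x : C} (hx : x ∈ P0 lift) (h : c = 1 ∨ c = z ∨ c = lift u ∨ c = zz lift z) :
    x * c = c * x := by
  rcases h with rfl | rfl | rfl | rfl
  · rw [mul_one, one_mul]
  · exact L.ext.comm x
  · exact mem_P0.1 hx
  · exact zz_comm L hx

/-- **The `P0`-invariant subgroups of the radical.** -/
theorem normal_dichotomy {N : Subgroup C} (hN : N ≤ Rad lift)
    (hn : ∀ c ∈ P0 lift, ∀ x ∈ N, c * x * c⁻¹ ∈ N) :
    N = Rad lift ∨ ∀ x ∈ N, x = 1 ∨ x = z ∨ x = lift u ∨ x = zz lift z := by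
  by_cases h : ∀ x ∈ N, ∀ w, Adm w → x * lift w = lift w * x
  · right
    intro x hx
    exact eq_of_comm L (Rad_le L (hN hx)) (h x hx)
  · left
    push Not at h
    obtain ⟨x, hx, w, hw, hne⟩ := h
    obtain ⟨a, ha⟩ := exists_param L (hN hx)
    set s := hermForm 4 F 2 (top (m := 4) w) a with hs
    have h1 := ha w hw
    rw [← hs] at h1
    have hs0 : s ≠ 0 := by
      intro h0
      rw [h0, zero_smul, add_zero] at h1
      exact hne (mul_inv_eq_iff_eq_mul.1 h1)
    have hlw : (lift w)⁻¹ = lift w := inv_eq_of_mul_eq_one_left (sq_adm L hw)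
    have hwP : lift w ∈ P0 lift := lift_mem L hw.ne hw.iso hw.perp
    have h2 : lift w * lift (w + s • u) ∈ N := by
      have h3 := hn _ hwP _ (inv_mem hx)
      have h4 := mul_mem hx h3
      have h5 : x * (lift w * x⁻¹ * (lift w)⁻¹) = lift (w + s • u) * lift w := by
        rw [← h1, hlw]; group
      rw [h5] at h4
      have h6 := comm_block L hw s 0
      rw [zero_smul, add_zero] at h6
      rwa [h6] at h4
    apply le_antisymm hN
    unfold Rad
    rw [Subgroup.closure_le]
    rintro y ⟨w', c, h0, h0', hw', hwu', rfl⟩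
    by_cases hc : c = 0
    · subst hc
      rw [zero_smul, add_zero, L.sq w' h0 hw']
      exact one_mem _
    by_cases hk : ∃ k : F, w' = k • u
    · obtain ⟨k, rfl⟩ := hk
      have hk0 : k ≠ 0 := by
        rintro rfl
        exact h0 (zero_smul _ _)
      have hkc : k + c ≠ 0 := by
        intro h
        apply h0'
        rw [← add_smul, h, zero_smul]
      have h1 : lift (k • u) * lift (k • u + c • u) = (1 : C) := by
        rw [← add_smul, L.smul u k (hu hF) hk0, L.smul u (k + c) (hu hF) hkc, uu L]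
      rw [h1]
      exact one_mem _
    · obtain ⟨g, hg, h3, h4⟩ := exists_conj_pair L hw ⟨hw', hwu', hk⟩ hs0 hc
      have h5 := hn g hg _ h2
      have h6 : g * (lift w * lift (w + s • u)) * g⁻¹ =
          (g * lift w * g⁻¹) * (g * lift (w + s • u) * g⁻¹) := by group
      rwa [h6, h3, h4] at h5

/-- `Rad` is not abelian -/
theorem exists_comm_zz : ∃ x ∈ Rad lift, ∃ y ∈ Rad lift, x * y * x⁻¹ * y⁻¹ = zz lift z := by
  obtain ⟨ω, hω⟩ := exists_omega hF
  have hω0 : ω ≠ 0 := by
    rintro rfl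
    simp at hω
  have hω1 : (1 : F) ≠ ω := by
    rintro rfl
    have h6 := two_eq_zero hF
    exact one_ne_zero (α := F) (by linear_combination hω - h6)
  have ha := adm_a hF
  have hb : Adm (ι (eb ω) : Fin 6 → F) := adm_ι hF (eb_ne hω0) (herm_eb hF hω)
  refine ⟨lift (ι (ea F)) * lift (ι (ea F) + (1 : F) • u),
    pair_mem_Rad ha rfl (ha.add hF 1).ne,
    lift (ι (eb ω)) * lift (ι (eb ω) + ω • u),
    pair_mem_Rad hb rfl (hb.add hF ω).ne, ?_⟩
  set x := lift (ι (ea F)) * lift (ι (ea F) + (1 : F) • u) with hx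
  have hxR : x ∈ Rad lift := pair_mem_Rad ha rfl (ha.add hF 1).ne
  -- the action of `x`
  have hxact : ∀ w, Adm w → x * lift w * x⁻¹ =
      lift (w + (hermForm 6 F 2 w (ι (ea F)) * 1) • u) := by
    intro w hw
    have hπ : π x = pr 6 F 2 (T hF (ι (ea F)) ha.iso *
        T hF (ι (ea F) + (1 : F) • u) (iso_add (m := 4) hF ha.iso ha.perp 1)) := by
      rw [hx, map_mul, L.map _ ha.ne ha.iso, L.map _ (ha.add hF 1).ne (ha.add hF 1).iso,
        tau_eq_pr hF ha.iso, tau_eq_pr hF (ha.add hF 1).iso, ← map_mul]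
    rw [L.conj x _ w hπ hw.ne hw.iso]
    congr 1
    exact act_pair (m := 4) hF ha.iso ha.perp 1 hw.perp
  have hs : hermForm 6 F 2 (ι (eb ω)) (ι (ea F)) = 1 := by
    have := herm_ι_left (m := 4) (eb ω) (ι (ea F))
    rw [top_ι, herm_eb_ea hF hω] at this
    exact this
  have e1 := hxact _ hb
  rw [hs, one_mul] at e1
  have e2 := hxact _ (hb.add hF ω)
  have hs2 : hermForm 6 F 2 (ι (eb ω) + ω • u) (ι (ea F)) = 1 := by
    rw [herm_add_left, herm_smul_left, hs, herm_eq_zero_swap hF ha.perp, mul_zero, add_zero]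
  rw [hs2, one_mul, add_assoc, ← add_smul, add_comm ω 1] at e2
  have h2 : (lift (ι (eb ω)) * lift (ι (eb ω) + ω • u))⁻¹ =
      lift (ι (eb ω)) * lift (ι (eb ω) + ω • u) := by
    rw [mul_inv_rev, inv_eq_of_mul_eq_one_left (sq_adm L hb),
      inv_eq_of_mul_eq_one_left (sq_adm L (hb.add hF ω))]
    have := comm_block L hb ω 0
    rw [zero_smul, add_zero] at this
    exact this
  have h3 : x * (lift (ι (eb ω)) * lift (ι (eb ω) + ω • u)) * x⁻¹ =
      (x * lift (ι (eb ω)) * x⁻¹) * (x * lift (ι (eb ω) + ω • u) * x⁻¹) := by group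
  rw [h2, h3, e1, e2]
  exact four L hb hω0 one_ne_zero hω1

/-- squares of elements of the radical -/
theorem sq_Rad {x : C} (hx : x ∈ Rad lift) : x * x = 1 ∨ x * x = zz lift z := by
  have hmem : ∀ x ∈ Rad lift, x * x ∈ Subgroup.zpowers (zz lift z) := by
    intro x hx
    refine Subgroup.closure_induction
      (p := fun x _ => x * x ∈ Subgroup.zpowers (zz lift z)) ?_ ?_ ?_ ?_ hx
    · rintro x ⟨w, c, h0, h0', hw, hwu, rfl⟩
      have hw' := iso_add (m := 4) hF hw hwu c
      have hcomm : lift (w + c • u) * lift w = lift w * lift (w + c • u) := by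
        refine (L.commute_iff hw' hw h0' h0).2 ?_
        rw [herm_add_left, herm_smul_left, herm_eq_zero_swap hF hwu, hw, mul_zero, add_zero]
      have : lift w * lift (w + c • u) * (lift w * lift (w + c • u)) = 1 := by
        calc lift w * lift (w + c • u) * (lift w * lift (w + c • u))
            = lift w * (lift (w + c • u) * lift w) * lift (w + c • u) := by group
          _ = lift w * (lift w * lift (w + c • u)) * lift (w + c • u) := by rw [hcomm]
          _ = (lift w * lift w) * (lift (w + c • u) * lift (w + c • u)) := by group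
          _ = 1 := by rw [L.sq w h0 hw, L.sq _ h0' hw', mul_one]
      rw [this]
      exact one_mem _
    · rw [mul_one]; exact one_mem _
    · intro a b ha hb ha' hb'
      have h1 : a * b * (a * b) = (a * a) * (a⁻¹ * b * a⁻¹⁻¹ * b⁻¹) * (b * b) := by group
      rw [h1]
      refine mul_mem (mul_mem ha' ?_) hb'
      rcases comm_Rad L (inv_mem ha) hb with h | h
      · rw [h]; exact one_mem _
      · rw [h]; exact Subgroup.mem_zpowers _
    · intro a ha ha'
      rw [← mul_inv_rev]
      exact inv_mem ha'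
  obtain ⟨k, hk⟩ := Subgroup.mem_zpowers_iff.1 (hmem x hx)
  rcases Int.even_or_odd k with ⟨m, rfl⟩ | ⟨m, rfl⟩
  · left
    rw [← hk, ← two_mul, zpow_mul, zpow_ofNat, pow_two, zz_sq L, one_zpow]
  · right
    rw [← hk, zpow_add, zpow_mul, zpow_ofNat, pow_two, zz_sq L, one_zpow, one_mul, zpow_one]

theorem isPGroup_Rad : IsPGroup 2 (Rad lift) := by
  rintro ⟨x, hx⟩
  refine ⟨2, Subtype.ext ?_⟩
  show x ^ (2 ^ 2) = 1
  have h1 : x ^ (2 ^ 2) = (x * x) * (x * x) := by
    rw [show (2 : ℕ) ^ 2 = 2 + 2 from rfl, pow_add, pow_two]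
  rw [h1]
  rcases sq_Rad L hx with h | h
  · rw [h, mul_one]
  · rw [h, zz_sq L]

/-! ### Perfectness -/

/-- the pair products lie in the commutator subgroup -/
theorem Rad_le_commutator : Rad lift ≤ (commutator (P0 lift)).map (P0 lift).subtype := by
  unfold Rad
  rw [Subgroup.closure_le]
  rintro y ⟨w, c, h0, h0', hw, hwu, rfl⟩
  by_cases hk : ∃ k : F, w = k • u
  · obtain ⟨k, rfl⟩ := hk
    have hk0 : k ≠ 0 := by
      rintro rfl
      exact h0 (zero_smul _ _)
    have hkc : k + c ≠ 0 := by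
      intro h
      apply h0'
      rw [← add_smul, h, zero_smul]
    have h1 : lift (k • u) * lift (k • u + c • u) = (1 : C) := by
      rw [← add_smul, L.smul u k (hu hF) hk0, L.smul u (k + c) (hu hF) hkc, uu L]
    rw [h1]
    exact one_mem _
  · have hA : Adm w := ⟨hw, hwu, hk⟩
    obtain ⟨g, hg, h⟩ := exists_conj L hA (hA.add hF c)
    have hwP := lift_mem L hA.ne hA.iso hA.perp
    have h1 : ⁅(⟨lift w, hwP⟩ : P0 lift), (⟨g, hg⟩ : P0 lift)⁆ ∈ commutator (P0 lift) :=
      Subgroup.commutator_mem_commutator (Subgroup.mem_top _) (Subgroup.mem_top _)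
    refine ⟨_, h1, ?_⟩
    show lift w * g * (lift w)⁻¹ * g⁻¹ = _
    have hlw : (lift w)⁻¹ = lift w := inv_eq_of_mul_eq_one_left (sq_adm L hA)
    rw [hlw, ← h]
    group

/-- **`P0` is perfect.** -/
theorem perfect (H : Hept lift z) : commutator (P0 lift) = ⊤ := by
  obtain ⟨ω, hω⟩ := exists_omega hF
  let f : P0 lift →* Abelianization (P0 lift) := Abelianization.of
  have hfker : f.ker = commutator (P0 lift) := Abelianization.ker_of _
  have hR : ∀ x (hx : x ∈ Rad lift), f ⟨x, Rad_le L hx⟩ = 1 := by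
    intro x hx
    obtain ⟨y, hy, hyx⟩ := Rad_le_commutator L hx
    have h1 : y = ⟨x, Rad_le L hx⟩ := Subtype.ext hyx
    rw [← MonoidHom.mem_ker, hfker, ← h1]
    exact hy
  have ha := adm_a hF
  have haP := lift_mem L ha.ne ha.iso ha.perp
  have hconst : ∀ w (hw : Adm w), f ⟨lift w, lift_mem L hw.ne hw.iso hw.perp⟩ =
      f ⟨lift (ι (ea F)), haP⟩ := by
    intro w hw
    obtain ⟨g, hg, h⟩ := exists_conj L hw ha
    have h1 : (⟨lift (ι (ea F)), haP⟩ : P0 lift) =
        ⟨g, hg⟩ * ⟨lift w, lift_mem L hw.ne hw.iso hw.perp⟩ * (⟨g, hg⟩ : P0 lift)⁻¹ :=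
      Subtype.ext h.symm
    rw [h1, map_mul, map_mul, map_inv, mul_comm (f ⟨g, hg⟩), mul_assoc, mul_inv_cancel, mul_one]
  -- a line without `u`
  set b : Fin 4 → F := ![0, 0, 1, 1] with hb
  have hbb : hermForm 4 F 2 b b = 0 := by
    rw [herm_def]
    simp [hb, Fin.sum_univ_four]
    linear_combination two_eq_zero hF
  have hab : hermForm 4 F 2 (ea F) b = 0 := by
    rw [herm_def]
    simp [hb, ea, Fin.sum_univ_four]
  have hba := herm_eq_zero_swap hF hab
  have hiso : ∀ k : F, hermForm 4 F 2 (k • ea F + b) (k • ea F + b) = 0 := by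
    intro k
    simp only [herm_add_left, herm_add_right hF, herm_smul_left, herm_smul_right, herm_ea hF, hbb,
      hab, hba]
    ring
  have hne : ∀ k : F, k • ea F + b ≠ 0 := by
    intro k h
    have := congrFun h 2
    simp [ea, hb] at this
  have hadm : ∀ k : F, Adm (k • ι (ea F) + ι b : Fin 6 → F) := by
    intro k
    have h1 := adm_ι hF (hne k) (hiso k)
    have h2 : (ι (k • ea F + b) : Fin 6 → F) = k • ι (ea F) + ι b := by
      have := ι_add (m := 4) (k • ea F) b
      rw [ι_smul (m := 4)] at this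
      exact this
    rwa [h2] at h1
  have hb1 : Adm (ι b : Fin 6 → F) := by
    have := hadm 0
    rwa [zero_smul, zero_add] at this
  have hadm1 : Adm (ι (ea F) + ι b : Fin 6 → F) := by
    have := hadm 1
    rwa [one_smul] at this
  have hline := L.line (ι (ea F)) (ι b) ha.ne hb1.ne ha.iso hb1.iso (by
      have := herm_ι_left (m := 4) (ea F) (ι b)
      rw [top_ι, hab] at this
      exact this) (by
      rintro ⟨k, hk⟩
      have h1 := congrArg (top (m := 4)) hk
      rw [top_ι, Levi.top_smul, top_ι] at h1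
      have := congrFun h1 2
      simp [ea, hb] at this) ω hω
  have hεz : f ⟨lift (ι (ea F)), haP⟩ ^ 5 = 1 := by
    have h1 : (⟨lift (ι (ea F)), haP⟩ * ⟨lift (ι b), lift_mem L hb1.ne hb1.iso hb1.perp⟩ *
        ⟨lift (ι (ea F) + ι b), lift_mem L hadm1.ne hadm1.iso hadm1.perp⟩ *
        ⟨lift (ω • ι (ea F) + ι b), lift_mem L (hadm ω).ne (hadm ω).iso (hadm ω).perp⟩ *
        ⟨lift (ω ^ 2 • ι (ea F) + ι b), lift_mem L (hadm (ω ^ 2)).ne (hadm (ω ^ 2)).iso
          (hadm (ω ^ 2)).perp⟩ : P0 lift) = ⟨z, Rad_le L (z_mem_Rad L H)⟩ := Subtype.ext hline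
    have h2 := congrArg f h1
    rw [map_mul, map_mul, map_mul, map_mul, hconst _ hb1, hconst _ hadm1, hconst _ (hadm ω),
      hconst _ (hadm (ω ^ 2)), hR z (z_mem_Rad L H)] at h2
    rw [← h2, pow_succ, pow_succ, pow_succ, pow_two]
  have hε2 : f ⟨lift (ι (ea F)), haP⟩ ^ 2 = 1 := by
    rw [← map_pow]
    have : (⟨lift (ι (ea F)), haP⟩ : P0 lift) ^ 2 = 1 := by
      rw [pow_two]
      exact Subtype.ext (sq_adm L ha)
    rw [this, map_one]
  have hε : f ⟨lift (ι (ea F)), haP⟩ = 1 := by
    have h1 : f ⟨lift (ι (ea F)), haP⟩ ^ 5 = (f ⟨lift (ι (ea F)), haP⟩ ^ 2) ^ 2 *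
        f ⟨lift (ι (ea F)), haP⟩ := by
      rw [← pow_mul, ← pow_succ]
    rw [hεz, hε2, one_pow, one_mul] at h1
    exact h1.symm
  rw [eq_top_iff]
  rintro ⟨c, hc⟩ -
  rw [← hfker, MonoidHom.mem_ker]
  have hc' := hc
  rw [P0_eq_closure L] at hc'
  have key : ∀ c ∈ Subgroup.closure (gens lift), ∀ hc : c ∈ P0 lift, f ⟨c, hc⟩ = 1 := by
    intro c hc
    refine Subgroup.closure_induction (p := fun c _ => ∀ hc : c ∈ P0 lift, f ⟨c, hc⟩ = 1)
      ?_ ?_ ?_ ?_ hc
    · rintro x (rfl | ⟨w, hw, rfl⟩) hx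
      · exact hR _ (u_mem_Rad L H)
      · rw [hconst w hw, hε]
    · intro _
      exact map_one f
    · intro a b ha hb ha' hb' hx
      rw [← P0_eq_closure L] at ha hb
      have h1 : (⟨a * b, hx⟩ : P0 lift) = ⟨a, ha⟩ * ⟨b, hb⟩ := rfl
      rw [h1, map_mul, ha' ha, hb' hb, mul_one]
    · intro a ha ha' hx
      rw [← P0_eq_closure L] at ha
      have h1 : (⟨a⁻¹, hx⟩ : P0 lift) = (⟨a, ha⟩)⁻¹ := rfl
      rw [h1, map_inv, ha' ha, inv_one]
  exact key c hc' hc

end Cfsg.Agent.KFacts.FiTT.Radical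

end

-- merged: Cfsg.Agent.KFacts.FiTT.Hept
section

/-!
# The heptad relation in unitary coordinates, for the group Fi22 on 3510 points
-/

set_option autoImplicit false

namespace Cfsg.Agent.KFacts.FiTT.Hept

open Cfsg Cfsg.Agent.LieClassical.HermBasic Cfsg.Agent.ClassicalGeometry.UnitTransv
open Cfsg.Agent.SporadicStructure.UnitTwo Cfsg.Agent.R01.PSUSix
open Cfsg.Agent.ClassicalGeometry.UnitAutBasic (tau pr pr_surjective)
open Cfsg.Agent.R01.Lifts Cfsg.Agent.R01.Label Cfsg.Agent.R01.Start Cfsg.Agent.R01.Loc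
open Cfsg.Agent.KFacts.FiTT.Levi Cfsg.Agent.KFacts.FiTT.Cent Cfsg.Agent.KFacts.FiTT.Radical

section Abs

variable {C : Type*} [Group C] {F : Type*} [Field F] [Fintype F] {hF : Fintype.card F = 2 ^ 2}
  {π : C →* PSU 6 F 2} {z : C} {lift : (Fin 6 → F) → C}

/-- `w` is an isotropic vector orthogonal to `v` which is not a multiple of `v` -/
structure AdmV (v w : Fin 6 → F) : Prop where
  iso : hermForm 6 F 2 w w = 0
  perp : hermForm 6 F 2 w v = 0
  indep : ¬ ∃ c : F, w = c • v

theorem AdmV.map (hF : Fintype.card F = 2 ^ 2) {v w : Fin 6 → F} (h : AdmV v w) {g : SU 6 F 2}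
    {k : F} (hk : k ≠ 0) (hg : act g v = k • u) : Adm (k⁻¹ • act g w) where
  iso := by rw [herm_smul_left, herm_smul_right, herm_act, h.iso, mul_zero, mul_zero]
  perp := by
    have h1 : hermForm 6 F 2 (act g w) (act g v) = 0 := by rw [herm_act, h.perp]
    rw [hg, herm_smul_right] at h1
    rw [herm_smul_left, (mul_eq_zero.1 h1).resolve_left (pow_ne_zero _ hk), mul_zero]
  indep := by
    rintro ⟨c, hc⟩
    apply h.indep
    refine ⟨c, ?_⟩
    apply act_injective g
    rw [act_smul, hg, smul_comm, ← hc, smul_smul, mul_inv_cancel₀ hk, one_smul]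

theorem hept_of (L : Lab hF π z z lift) {v a b c : Fin 6 → F} (hv0 : v ≠ 0)
    (hv : hermForm 6 F 2 v v = 0) (ha : AdmV v a) (hb : AdmV v b) (hc : AdmV v c)
    (h : lift a * lift (a + v) * (lift b * lift (b + v)) * (lift c * lift (c + v)) = z) :
    Hept lift z := by
  obtain ⟨g, k, hk, hg⟩ := exists_map hF v u hv0 (u_ne hF) hv (hu hF)
  obtain ⟨x, hx⟩ := L.ext.surj (pr 6 F 2 g)
  have key : ∀ w, AdmV v w → x * lift w * x⁻¹ = lift (k⁻¹ • act g w) ∧
      x * lift (w + v) * x⁻¹ = lift (k⁻¹ • act g w + (1 : F) • u) := by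
    intro w hw
    have hw0 : w ≠ 0 := fun h0 => hw.indep ⟨0, by rw [h0, zero_smul]⟩
    have hA := hw.map hF hk hg
    have hA' := hA.add hF 1
    have e : k • (k⁻¹ • act g w) = act g w := by rw [smul_smul, mul_inv_cancel₀ hk, one_smul]
    have e' : k • (k⁻¹ • act g w + (1 : F) • u) = act g (w + v) := by
      rw [smul_add, e, act_add, hg, one_smul]
    constructor
    · rw [L.conj x g w hx hw0 hw.iso]
      conv_lhs => rw [← e]
      exact L.smul _ k hA.iso hk
    · have h1 : hermForm 6 F 2 (w + v) (w + v) = 0 := by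
        rw [herm_add_left, herm_add_right hF, herm_add_right hF, hw.iso, hw.perp,
          herm_eq_zero_swap hF hw.perp, hv]
        ring
      have h0 : w + v ≠ 0 := by
        intro h0
        apply hw.indep
        refine ⟨1, ?_⟩
        rw [one_smul]
        have := congrArg (fun y => y + v) h0
        simp only [add_assoc, vadd_self hF, add_zero, zero_add] at this
        exact this
      rw [L.conj x g _ hx h0 h1, ← e']
      exact L.smul _ k hA'.iso hk
  refine ⟨k⁻¹ • act g a, k⁻¹ • act g b, k⁻¹ • act g c, ha.map hF hk hg, hb.map hF hk hg,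
    hc.map hF hk hg, ?_⟩
  rw [← (key a ha).1, ← (key a ha).2, ← (key b hb).1, ← (key b hb).2, ← (key c hc).1,
    ← (key c hc).2]
  have h1 : x * z * x⁻¹ = z := by rw [L.ext.comm, mul_inv_cancel_right]
  rw [← h1]
  conv_rhs => rw [← h]
  group

end Abs

/-! ### The group on 3510 points -/

open Cfsg.Agent.Fischer Cfsg.Agent.Fischer.Cert Cfsg.Agent.Fischer.Abstract
  Cfsg.Agent.Fischer.Centralizer Cfsg.Agent.Fischer.Group22 Cfsg.Agent.Fischer.Rank22
  Cfsg.Agent.Fischer.Vec22 Cfsg.Agent.Fischer.Unit22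
open Cfsg.Agent.SporRec.GF4 Cfsg.Agent.R01.Fi22Loc

/-- the point orthogonal to the six points -/
def pv : Link R := mkLink 2944 (by decide) (by decide)
def l1 : Link R := mkLink 2835 (by decide) (by decide)
def l2 : Link R := mkLink 2963 (by decide) (by decide)
def l3 : Link R := mkLink 2924 (by decide) (by decide)
def l4 : Link R := mkLink 2830 (by decide) (by decide)
def l5 : Link R := mkLink 2817 (by decide) (by decide)
def l6 : Link R := mkLink 2827 (by decide) (by decide)

theorem vec_a : P.vec l1 = P.vec l5 + P.vec pv := by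
  funext i
  fin_cases i <;> decide +kernel

theorem vec_b : P.vec l4 = P.vec l6 + P.vec pv := by
  funext i
  fin_cases i <;> decide +kernel

theorem vec_c : P.vec l3 = P.vec l2 + P.vec pv := by
  funext i
  fin_cases i <;> decide +kernel

theorem sixL_eq : sixL = [l2, l5, l1, l6, l4, l3] := rfl

theorem perp_of {x y : Link R} (h : isZ (herm (vx (x.1 : X).1) (vx (y.1 : X).1)) = true) :
    hermForm 6 F4 2 (P.vec x) (P.vec y) = 0 := by
  have h2 : hermForm 6 F4 2 (P.vec x) (P.vec y) = herm (vx (x.1 : X).1) (vx (y.1 : X).1) :=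
    herm_eq _ _
  rw [h2, ← isZ_iff]
  exact h

theorem perp_a : hermForm 6 F4 2 (P.vec l5) (P.vec pv) = 0 := perp_of (by decide +kernel)
theorem perp_b : hermForm 6 F4 2 (P.vec l6) (P.vec pv) = 0 := perp_of (by decide +kernel)
theorem perp_c : hermForm 6 F4 2 (P.vec l2) (P.vec pv) = 0 := perp_of (by decide +kernel)
theorem perp_ca : hermForm 6 F4 2 (P.vec l2) (P.vec l5) = 0 := perp_of (by decide +kernel)
theorem perp_ca' : hermForm 6 F4 2 (P.vec l2) (P.vec l1) = 0 := perp_of (by decide +kernel)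
theorem perp_cb : hermForm 6 F4 2 (P.vec l2) (P.vec l6) = 0 := perp_of (by decide +kernel)
theorem perp_cb' : hermForm 6 F4 2 (P.vec l2) (P.vec l4) = 0 := perp_of (by decide +kernel)

theorem admV {x : Link R} (hp : hermForm 6 F4 2 (P.vec x) (P.vec pv) = 0) (hne : x ≠ pv) :
    AdmV (P.vec pv) (P.vec x) where
  iso := P.iso x
  perp := hp
  indep := by
    rintro ⟨c, hc⟩
    exact hne (P.uniq _ _ c hc)

theorem ne_pv {x : Link R} (h : (x.1 : X).1 ≠ 2944) : x ≠ pv := by
  rintro rfl
  exact h rfl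

/-- **The labelling at the base transposition, with the heptad relation.** -/
theorem exists_lift : ∃ lift : (Fin 6 → F4) → C R,
    Lab hF π (zel (R.t R.x0)) (zel (R.t R.x0)) lift ∧ (∀ y, lift (P.vec y) = τ y) ∧
      Hept lift (zel (R.t R.x0)) := by
  obtain ⟨lift, L, hl⟩ := Cfsg.Agent.R01.Fi22Loc.exists_lift
  refine ⟨lift, L, hl, ?_⟩
  refine hept_of L (P.ne pv) (P.iso pv) (admV perp_a (ne_pv (by decide)))
    (admV perp_b (ne_pv (by decide))) (admV perp_c (ne_pv (by decide))) ?_
  rw [← vec_a, ← vec_b, ← vec_c]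
  have h := prod_sixL
  rw [sixL_eq] at h
  simp only [List.map_cons, List.map_nil, List.prod_cons, List.prod_nil, mul_one, ← hl] at h
  rw [← h]
  have hcomm : ∀ {x y : Link R}, hermForm 6 F4 2 (P.vec x) (P.vec y) = 0 →
      lift (P.vec x) * lift (P.vec y) = lift (P.vec y) * lift (P.vec x) := by
    intro x y h
    exact (L.commute_iff (P.iso _) (P.iso _) (P.ne _) (P.ne _)).2 h
  have e1 := hcomm perp_ca
  have e2 := hcomm perp_ca'
  have e3 := hcomm perp_cb
  have e4 := hcomm perp_cb'
  calc lift (P.vec l5) * lift (P.vec l1) * (lift (P.vec l6) * lift (P.vec l4)) *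
        (lift (P.vec l2) * lift (P.vec l3))
      = lift (P.vec l5) * lift (P.vec l1) * lift (P.vec l6) *
          (lift (P.vec l4) * lift (P.vec l2)) * lift (P.vec l3) := by group
    _ = lift (P.vec l5) * lift (P.vec l1) * (lift (P.vec l6) * lift (P.vec l2)) *
          lift (P.vec l4) * lift (P.vec l3) := by rw [← e4]; group
    _ = lift (P.vec l5) * (lift (P.vec l1) * lift (P.vec l2)) * lift (P.vec l6) *
          lift (P.vec l4) * lift (P.vec l3) := by rw [← e3]; group
    _ = (lift (P.vec l5) * lift (P.vec l2)) * lift (P.vec l1) * lift (P.vec l6) *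
          lift (P.vec l4) * lift (P.vec l3) := by rw [← e2]; group
    _ = _ := by rw [← e1]; group

end Cfsg.Agent.KFacts.FiTT.Hept

end

-- merged: Cfsg.Agent.KFacts.FiTT.Base
section

/-!
# The data of a group isomorphic to Fi22
-/

set_option autoImplicit false

namespace Cfsg.Agent.KFacts.FiTT

open Cfsg Cfsg.Agent.LieClassical.HermBasic Cfsg.Agent.ClassicalGeometry.UnitTransv
open Cfsg.Agent.R01.Lifts Cfsg.Agent.R01.Label Cfsg.Agent.R01.Start Cfsg.Agent.R01.Loc
open Cfsg.Agent.R01.Fi22Facts (centMap coe_centMap centMap_zel isThree_map)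
open Cfsg.Agent.KFacts.FiTT.Cent Cfsg.Agent.KFacts.FiTT.Radical
open Cfsg.Agent.SporRec.GF4
open Cfsg.Agent.Fischer.Unit22 (hF)

universe v w

/-- The data of `Fi22`: the class `T` of transpositions, the transposition `d` and unitary coordinates in its
centraliser. -/
structure Base (K : Type v) [Group K] (T : Set K) (d : K)
    (π : Subgroup.centralizer ({d} : Set K) →* PSU 6 F4 2)
    (lift : (Fin 6 → F4) → Subgroup.centralizer ({d} : Set K)) : Prop where
  card : Nat.card K = 64561751654400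
  simple : IsSimpleGroup K
  three : IsThreeTranspositionClass T
  mem : d ∈ T
  ncard : T.ncard = 3510
  link : (Dset lift).ncard = 693
  lab : Lab hF π (zel d) (zel d) lift
  memT : ∀ x : Subgroup.centralizer ({d} : Set K), (x : K) ∈ T ↔ x = zel d ∨ x ∈ Dset lift
  hept : Hept lift (zel d)
  trans : ∀ a ∈ T, ∀ b ∈ T, ∀ a' ∈ T, ∀ b' ∈ T, a ≠ b → a' ≠ b' → Commute a b → Commute a' b' →
    ∃ g : K, g * a * g⁻¹ = a' ∧ g * b * g⁻¹ = b'

/-- Transport along an isomorphism. -/
theorem Base.map {K : Type v} [Group K] {K' : Type w} [Group K'] {T : Set K} {d : K}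
    {π : Subgroup.centralizer ({d} : Set K) →* PSU 6 F4 2}
    {lift : (Fin 6 → F4) → Subgroup.centralizer ({d} : Set K)} (B : Base K T d π lift)
    (e : K ≃* K') : Base K' (e '' T) (e d) (π.comp (centMap e d).symm.toMonoidHom)
      (fun v => centMap e d (lift v)) where
  card := by rw [← Nat.card_congr e.toEquiv]; exact B.card
  simple := by
    have := B.simple
    exact e.symm.isSimpleGroup
  three := isThree_map e B.three
  mem := ⟨d, B.mem, rfl⟩
  ncard := by rw [Set.ncard_image_of_injective _ e.injective]; exact B.ncard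
  link := by
    have h : Dset (fun v => centMap e d (lift v)) = (centMap e d) '' Dset lift := by
      ext x
      constructor
      · rintro ⟨v, h0, hv, rfl⟩
        exact ⟨_, ⟨v, h0, hv, rfl⟩, rfl⟩
      · rintro ⟨_, ⟨v, h0, hv, rfl⟩, rfl⟩
        exact ⟨v, h0, hv, rfl⟩
    rw [h, Set.ncard_image_of_injective _ (centMap e d).injective]
    exact B.link
  lab := lab_transport B.lab (centMap e d)
  memT := by
    intro x
    obtain ⟨x, rfl⟩ := (centMap e d).surjective x
    have h1 : ((centMap e d x : Subgroup.centralizer ({e d} : Set K')) : K') ∈ e '' T ↔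
        (x : K) ∈ T := by
      rw [coe_centMap]
      constructor
      · rintro ⟨y, hy, hxy⟩
        rwa [← e.injective hxy]
      · intro h
        exact ⟨_, h, rfl⟩
    rw [h1, B.memT, mem_Dset_transport, ← centMap_zel, (centMap e d).injective.eq_iff]
  hept := by
    obtain ⟨a, b, c, ha, hb, hc, h⟩ := B.hept
    refine ⟨a, b, c, ha, hb, hc, ?_⟩
    rw [← map_mul, ← map_mul, ← map_mul, ← map_mul, ← map_mul, h, centMap_zel]
  trans := by
    rintro _ ⟨a, ha, rfl⟩ _ ⟨b, hb, rfl⟩ _ ⟨a', ha', rfl⟩ _ ⟨b', hb', rfl⟩ h h' hc hc'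
    have key : ∀ {x y : K}, Commute (e x) (e y) → Commute x y := by
      intro x y hxy
      apply e.injective
      rw [map_mul, map_mul]
      exact hxy
    obtain ⟨g, h1, h2⟩ := B.trans a ha b hb a' ha' b' hb' (fun h0 => h (by rw [h0]))
      (fun h0 => h' (by rw [h0])) (key hc) (key hc')
    exact ⟨e g, by rw [← h1, map_mul, map_mul, map_inv], by rw [← h2, map_mul, map_mul, map_inv]⟩

/-! ### The group on 3510 points -/

section G22

open Cfsg.Agent.Fischer Cfsg.Agent.Fischer.Abstract Cfsg.Agent.Fischer.Centralizer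
  Cfsg.Agent.Fischer.Group22 Cfsg.Agent.Fischer.Rank22 Cfsg.Agent.Fischer.Unit22
open Cfsg.Agent.R01.Fi22Loc

theorem card_Link : Nat.card (Link R) = 693 := by
  have e : Fin 693 ≃ Link R :=
    { toFun := fun i => mkLink (2817 + i.1) (by omega) (by omega)
      invFun := fun y => ⟨(y.1 : X).1 - 2817, by
        have h1 := link_ge y
        have h2 := link_lt y
        omega⟩
      left_inv := fun i => by
        apply Fin.ext
        show (2817 + i.1) - 2817 = i.1
        omega
      right_inv := fun y => by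
        apply link_ext
        have h1 := link_ge y
        show 2817 + ((y.1 : X).1 - 2817) = (y.1 : X).1
        omega }
  rw [← Nat.card_congr e, Nat.card_fin]

theorem card_G22 : Nat.card G = 64561751654400 := by
  rw [← Cfsg.Agent.R01.Fi22Facts.card]
  exact Nat.card_congr Cfsg.Agent.R01.Fi22Facts.E.toEquiv

theorem τ_injective : Function.Injective (τ : Link R → C R) := by
  intro x y h
  have h1 : R.t x.1 = R.t y.1 := congrArg Subtype.val h
  exact Subtype.ext (R.t_injective h1)

theorem exists_base_D : ∃ (d : G)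
    (π : Subgroup.centralizer ({d} : Set G) →* PSU 6 F4 2)
    (lift : (Fin 6 → F4) → Subgroup.centralizer ({d} : Set G)),
    Base G Cfsg.Agent.R01.Fi22Loc.D d π lift := by
  obtain ⟨lift, L, hl, H⟩ := Hept.exists_lift
  refine ⟨R.t R.x0, Cfsg.Agent.R01.Fi22Loc.π, lift, ?_⟩
  exact
    { card := card_G22
      simple := Even22.isSimpleGroup
      three := Even22.isThreeTranspositionClass
      mem := ⟨R.x0, rfl⟩
      ncard := Even22.card_D
      link := by
        rw [Dset_eq L hl, ← Set.image_univ, Set.ncard_image_of_injective _ τ_injective,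
          Set.ncard_univ, card_Link]
      lab := L
      memT := fun x => by rw [Dset_eq L hl]; exact mem_D_iff x
      hept := H
      trans := by
        rintro _ ⟨x, rfl⟩ _ ⟨y, rfl⟩ _ ⟨x', rfl⟩ _ ⟨y', rfl⟩ h h' hc hc'
        obtain ⟨k, hk, hk'⟩ := Cfsg.Agent.R01.Fi22Facts.trans_com (x := x) (y := y) (x' := x')
          (y' := y') hc (fun h0 => h (by rw [h0])) hc' (fun h0 => h' (by rw [h0]))
        exact ⟨k, by rw [← R.map_smul, hk], by rw [← R.map_smul, hk']⟩ }

end G22

/-- The class of transpositions of a group isomorphic to `Fi22`. -/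
def TK {K : Type v} [Group K] (e : K ≃* Spor.Fi22) : Set K := e.symm '' Cfsg.Agent.R01.Fi22Facts.T

/-- **Every group isomorphic to `Fi22` has the data**, with the class `TK e`. -/
theorem exists_base_of {K : Type v} [Group K] (e : K ≃* Spor.Fi22) :
    ∃ (d : K) (π : Subgroup.centralizer ({d} : Set K) →* PSU 6 F4 2)
      (lift : (Fin 6 → F4) → Subgroup.centralizer ({d} : Set K)), Base K (TK e) d π lift := by
  obtain ⟨d, π, lift, B⟩ := exists_base_D
  have h : (Cfsg.Agent.R01.Fi22Facts.E.trans e.symm) '' Cfsg.Agent.R01.Fi22Loc.D = TK e := by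
    rw [TK, ← Cfsg.Agent.R01.Fi22Facts.image_D, Set.image_image]
    rfl
  have hB := B.map (Cfsg.Agent.R01.Fi22Facts.E.trans e.symm)
  rw [h] at hB
  exact ⟨_, _, _, hB⟩

/-- **Every group isomorphic to `Fi22` has the data.** -/
theorem exists_base {K : Type v} [Group K] (h : Nonempty (K ≃* Spor.Fi22)) :
    ∃ (T : Set K) (d : K) (π : Subgroup.centralizer ({d} : Set K) →* PSU 6 F4 2)
      (lift : (Fin 6 → F4) → Subgroup.centralizer ({d} : Set K)), Base K T d π lift := by
  obtain ⟨e⟩ := h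
  exact ⟨_, exists_base_of e⟩

end Cfsg.Agent.KFacts.FiTT

end

-- merged: Cfsg.Agent.KFacts.FiTT.Klevel
section

/-!
# Fi22: the centralisers of a transposition and of a product of two commuting transpositions
-/

set_option autoImplicit false
set_option linter.unusedSectionVars false

namespace Cfsg.Agent.KFacts.FiTT

open Cfsg Cfsg.Agent.LieClassical.HermBasic Cfsg.Agent.ClassicalGeometry.UnitTransv
open Cfsg.Agent.SporadicStructure.UnitTwo (exists_omega two_eq_zero)
open Cfsg.Agent.R01.Lifts Cfsg.Agent.R01.Label Cfsg.Agent.R01.Start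
open Cfsg.Agent.KFacts.FiTT.Cent Cfsg.Agent.KFacts.FiTT.Radical Cfsg.Agent.KFacts.FiTT.Levi
open Cfsg.Agent.SporRec.GF4
open Cfsg.Agent.Fischer.Unit22 (hF)
open scoped commutatorElement

universe v

variable {K : Type v} [Group K] {T : Set K} {d : K}
  {π : Subgroup.centralizer ({d} : Set K) →* PSU 6 F4 2}
  {lift : (Fin 6 → F4) → Subgroup.centralizer ({d} : Set K)}

/-- the second transposition -/
def d2 (lift : (Fin 6 → F4) → Subgroup.centralizer ({d} : Set K)) : K := (lift u : K)

theorem comm_d (x : Subgroup.centralizer ({d} : Set K)) : (x : K) * d = d * x :=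
  Subgroup.mem_centralizer_singleton_iff.1 x.2

namespace Base

variable (B : Base K T d π lift)
include B

theorem finite : Finite K := Nat.finite_of_card_ne_zero (by rw [B.card]; norm_num)

theorem dd : d * d = 1 := congrArg Subtype.val B.lab.ext.zz

theorem d_ne : d ≠ 1 := fun h => B.lab.ext.zne (Subtype.ext h)

theorem d2_sq : d2 lift * d2 lift = 1 := congrArg Subtype.val (uu B.lab)

theorem d2_comm : d2 lift * d = d * d2 lift := comm_d _

theorem d2_ne_one : d2 lift ≠ 1 := fun h =>
  B.lab.lift_ne_one (u_ne hF) (hu hF) (Subtype.ext h)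

theorem ne : d ≠ d2 lift := fun h =>
  B.lab.z_notMem ⟨u, u_ne hF, hu hF, Subtype.ext h⟩

theorem lift_mem_T {w : Fin 6 → F4} (h0 : w ≠ 0) (hw : hermForm 6 F4 2 w w = 0) :
    ((lift w : Subgroup.centralizer ({d} : Set K)) : K) ∈ T :=
  (B.memT _).2 (Or.inr ⟨w, h0, hw, rfl⟩)

theorem d2_mem : d2 lift ∈ T := B.lift_mem_T (u_ne hF) (hu hF)

theorem conj_mem {x : K} (hx : x ∈ T) (g : K) : g * x * g⁻¹ ∈ T := by
  obtain ⟨-, ⟨t, ht, hT⟩, -⟩ := B.three
  rw [hT] at hx ⊢
  obtain ⟨c, hc⟩ := isConj_iff.1 (show IsConj t x from hx)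
  exact isConj_iff.2 ⟨g * c, by rw [← hc]; group⟩

theorem sq {x : K} (hx : x ∈ T) : x * x = 1 := by
  have := B.three.1.1 x hx
  rw [← pow_two, ← this, pow_orderOf_eq_one]

theorem inv {x : K} (hx : x ∈ T) : x⁻¹ = x := inv_eq_of_mul_eq_one_left (B.sq hx)

/-- either commuting or braided -/
theorem braid {x y : K} (hx : x ∈ T) (hy : y ∈ T) : x * y = y * x ∨ x * y * x = y * x * y := by
  rcases B.three.1.2 x hx y hy with h | h
  · left
    rw [pow_two] at h
    have h1 : x * y = (x * y)⁻¹ := eq_inv_of_mul_eq_one_left h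
    rw [mul_inv_rev, B.inv hx, B.inv hy] at h1
    exact h1
  · right
    have h1 : x * y * x * (y * x * y) = 1 := by
      rw [← h, pow_succ, pow_two]; group
    have h2 := eq_inv_of_mul_eq_one_left h1
    rw [h2, mul_inv_rev, mul_inv_rev, B.inv hx, B.inv hy]
    group

/-- a transposition commuting with `d` and `d2` and different from both is a labelled one -/
theorem exists_adm {a : K} (ha : a ∈ T) (h1 : a * d = d * a) (h2 : a * d2 lift = d2 lift * a)
    (hne : a ≠ d) (hne2 : a ≠ d2 lift) :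
    ∃ w : Fin 6 → F4, Adm w ∧ a = (lift w : Subgroup.centralizer ({d} : Set K)) := by
  have haC : a ∈ Subgroup.centralizer ({d} : Set K) :=
    Subgroup.mem_centralizer_singleton_iff.2 h1
  rcases (B.memT ⟨a, haC⟩).1 ha with h | ⟨w, hw0, hw, h⟩
  · exact absurd (congrArg Subtype.val h) hne
  · have ha' : a = (lift w : Subgroup.centralizer ({d} : Set K)) := congrArg Subtype.val h
    refine ⟨w, ⟨hw, ?_, ?_⟩, ha'⟩
    · rw [← B.lab.commute_iff hw (hu hF) hw0 (u_ne hF)]
      apply Subtype.ext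
      show ((lift w : Subgroup.centralizer ({d} : Set K)) : K) * d2 lift = d2 lift * _
      rw [← ha', h2]
    · rintro ⟨c, rfl⟩
      apply hne2
      rw [ha', d2, B.lab.smul u c (hu hF)]
      rintro rfl
      exact hw0 (zero_smul _ _)

/-- a transposition commuting with `d`, `d2` and not with a given third one -/
theorem exists_link {w : Fin 6 → F4} (hw : Adm w) : ∃ e ∈ T, e * d = d * e ∧
    e * d2 lift = d2 lift * e ∧
    e * (lift w : Subgroup.centralizer ({d} : Set K)) ≠
      (lift w : Subgroup.centralizer ({d} : Set K)) * e := by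
  obtain ⟨ω, hω⟩ := exists_omega hF
  have hω0 : ω ≠ 0 := by
    rintro rfl
    simp at hω
  have ha := adm_a hF
  have hb : Adm (ι (eb ω) : Fin 6 → F4) := adm_ι hF (eb_ne hω0) (herm_eb hF hω)
  obtain ⟨g, hg, hgw⟩ := exists_conj B.lab ha hw
  have hgd2 := mem_P0.1 hg
  refine ⟨g * lift (ι (eb ω)) * g⁻¹, B.conj_mem (B.lift_mem_T hb.ne hb.iso) g, ?_, ?_, ?_⟩
  · have h1 := comm_d (g * lift (ι (eb ω)) * g⁻¹)
    exact h1
  · have h1 : g * lift (ι (eb ω)) * g⁻¹ ∈ P0 lift :=
      mul_mem (mul_mem hg (lift_mem B.lab hb.ne hb.iso hb.perp)) (inv_mem hg)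
    exact congrArg Subtype.val (mem_P0.1 h1)
  · intro h
    have h1 : (g * lift (ι (eb ω)) * g⁻¹) * lift w = lift w * (g * lift (ι (eb ω)) * g⁻¹) :=
      Subtype.ext h
    rw [← hgw] at h1
    have h2 : lift (ι (eb ω)) * lift (ι (ea F4)) = lift (ι (ea F4)) * lift (ι (eb ω)) := by
      have h3 := congrArg (fun x => g⁻¹ * x * g) h1
      calc lift (ι (eb ω)) * lift (ι (ea F4)) =
          g⁻¹ * (g * lift (ι (eb ω)) * g⁻¹ * (g * lift (ι (ea F4)) * g⁻¹)) * g := by group
        _ = g⁻¹ * (g * lift (ι (ea F4)) * g⁻¹ * (g * lift (ι (eb ω)) * g⁻¹)) * g := h3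
        _ = _ := by group
    have h3 := (B.lab.commute_iff hb.iso ha.iso hb.ne ha.ne).1 h2
    have h4 := herm_ι_left (m := 4) (eb ω) (ι (ea F4))
    rw [top_ι, herm_eb_ea hF hω] at h4
    exact one_ne_zero (α := F4) (h4.symm.trans h3)

/-- **The elements commuting with `d * d2`.** -/
theorem swap_or_fix {x : K} (hx : x * (d * d2 lift) = d * d2 lift * x) :
    (x * d = d * x ∧ x * d2 lift = d2 lift * x) ∨
      (x * d * x⁻¹ = d2 lift ∧ x * d2 lift * x⁻¹ = d) := by
  set a := x * d * x⁻¹ with ha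
  set b := x * d2 lift * x⁻¹ with hb
  have haT : a ∈ T := B.conj_mem B.mem x
  have hbT : b ∈ T := B.conj_mem B.d2_mem x
  have hab : a * b = d * d2 lift := by
    calc a * b = x * (d * d2 lift) * x⁻¹ := by rw [ha, hb]; group
      _ = d * d2 lift := by rw [hx, mul_inv_cancel_right]
  have hba : b * a = d * d2 lift := by
    calc b * a = x * (d2 lift * d) * x⁻¹ := by rw [ha, hb]; group
      _ = d * d2 lift := by rw [B.d2_comm, hx, mul_inv_cancel_right]
  have hzz : d * d2 lift ≠ 1 := by
    intro h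
    apply B.ne
    have := eq_inv_of_mul_eq_one_left h
    rwa [B.inv B.d2_mem] at this
  have haz : a * (d * d2 lift) = d * d2 lift * a := by
    calc a * (d * d2 lift) = a * (b * a) := by rw [hba]
      _ = (a * b) * a := by group
      _ = _ := by rw [hab]
  have hdi := B.inv B.mem
  have hd2i := B.inv B.d2_mem
  -- `a` commutes with `d` and `d2`
  have h1 : a * d = d * a ∧ a * d2 lift = d2 lift * a := by
    rcases B.braid haT B.mem with h | h
    · refine ⟨h, ?_⟩
      have h2 : d * (a * d2 lift) = d * (d2 lift * a) := by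
        rw [← mul_assoc, ← h, mul_assoc, haz]; group
      exact mul_left_cancel h2
    · rcases B.braid haT B.d2_mem with h' | h'
      · refine ⟨?_, h'⟩
        have h2 : a * d * d2 lift = d * a * d2 lift := by
          calc a * d * d2 lift = a * (d * d2 lift) := mul_assoc _ _ _
            _ = d * (d2 lift * a) := by rw [haz, mul_assoc]
            _ = d * (a * d2 lift) := by rw [h']
            _ = d * a * d2 lift := (mul_assoc _ _ _).symm
        exact mul_right_cancel h2
      · exfalso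
        apply hzz
        have h2 : (d * a * d) * (d2 lift * a * d2 lift) = d * d2 lift := by
          rw [← h, ← h']
          calc a * d * a * (a * d2 lift * a) = a * d * (a * a) * d2 lift * a := by group
            _ = (a * (d * d2 lift)) * a := by rw [B.sq haT]; group
            _ = d * d2 lift * (a * a) := by rw [haz, mul_assoc]
            _ = _ := by rw [B.sq haT, mul_one]
        have h3 : a * (d * d2 lift) * a = 1 := by
          have h4 := congrArg (fun y => d * y * d2 lift) h2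
          calc a * (d * d2 lift) * a = (d * d) * (a * d * d2 lift * a) * (d2 lift * d2 lift) := by
                rw [B.dd, B.d2_sq]; group
            _ = d * (d * a * d * (d2 lift * a * d2 lift)) * d2 lift := by group
            _ = d * (d * d2 lift) * d2 lift := by rw [h2]
            _ = (d * d) * (d2 lift * d2 lift) := by group
            _ = 1 := by rw [B.dd, B.d2_sq, mul_one]
        rw [haz, mul_assoc, B.sq haT, mul_one] at h3
        exact h3
  have hbeq : b = a * (d * d2 lift) := by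
    rw [← hab, ← mul_assoc, B.sq haT, one_mul]
  by_cases had : a = d
  · left
    have hbd : b = d2 lift := by rw [hbeq, had, ← mul_assoc, B.dd, one_mul]
    exact ⟨mul_inv_eq_iff_eq_mul.1 (ha.symm.trans had), mul_inv_eq_iff_eq_mul.1 (hb.symm.trans hbd)⟩
  by_cases had2 : a = d2 lift
  · right
    refine ⟨had2, ?_⟩
    rw [hbeq, had2, ← mul_assoc, B.d2_comm, mul_assoc, B.d2_sq, mul_one]
  · exfalso
    obtain ⟨w, hw, haw⟩ := B.exists_adm haT h1.1 h1.2 had had2
    obtain ⟨e, heT, hed, hed2, hne⟩ := B.exists_link hw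
    rw [← haw] at hne
    have hez : e * (d * d2 lift) = d * d2 lift * e := by
      rw [← mul_assoc, hed, mul_assoc, hed2, mul_assoc]
    have hzsq : (d * d2 lift) * (d * d2 lift) = 1 := by
      calc (d * d2 lift) * (d * d2 lift) = d * (d2 lift * d) * d2 lift := by group
        _ = (d * d) * (d2 lift * d2 lift) := by rw [B.d2_comm]; group
        _ = 1 := by rw [B.dd, B.d2_sq, mul_one]
    rcases B.braid heT haT with h | h
    · exact hne h
    · rcases B.braid heT hbT with h' | h'
      · apply hne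
        rw [hbeq] at h'
        have h2 : e * a * (d * d2 lift) = a * e * (d * d2 lift) := by
          calc e * a * (d * d2 lift) = e * (a * (d * d2 lift)) := by group
            _ = a * (d * d2 lift) * e := h'
            _ = a * ((d * d2 lift) * e) := mul_assoc _ _ _
            _ = a * (e * (d * d2 lift)) := by rw [← hez]
            _ = a * e * (d * d2 lift) := (mul_assoc _ _ _).symm
        exact mul_right_cancel h2
      · rw [hbeq] at h'
        apply hzz
        have e1 : e * (a * (d * d2 lift)) * e = e * a * e * (d * d2 lift) := by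
          calc e * (a * (d * d2 lift)) * e = e * a * ((d * d2 lift) * e) := by group
            _ = _ := by rw [← hez]; group
        have e2 : a * (d * d2 lift) * e * (a * (d * d2 lift)) = a * e * a := by
          calc a * (d * d2 lift) * e * (a * (d * d2 lift))
              = a * ((d * d2 lift) * e) * (a * (d * d2 lift)) := by group
            _ = a * e * ((d * d2 lift) * a) * (d * d2 lift) := by rw [← hez]; group
            _ = a * e * a * ((d * d2 lift) * (d * d2 lift)) := by rw [← haz]; group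
            _ = a * e * a := by rw [hzsq, mul_one]
        rw [e1, e2, h] at h'
        have h3 : a * e * a * (d * d2 lift) = a * e * a * 1 := by rw [h', mul_one]
        exact mul_left_cancel h3

/-- an element interchanging `d` and `d2` -/
theorem exists_swap : ∃ p : K, p * d * p⁻¹ = d2 lift ∧ p * d2 lift * p⁻¹ = d :=
  B.trans d B.mem _ B.d2_mem _ B.d2_mem d B.mem B.ne B.ne.symm B.d2_comm.symm B.d2_comm

end Base

end Cfsg.Agent.KFacts.FiTT

end

-- merged: Cfsg.Agent.KFacts.FiTT.Facts
section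

/-!
# The facts on `Fi22`: proofs
-/

set_option autoImplicit false
set_option linter.unusedSectionVars false

namespace Cfsg.Agent.KFacts.FiTT

open Cfsg Cfsg.Agent.LieClassical.HermBasic Cfsg.Agent.ClassicalGeometry.UnitTransv
open Cfsg.Agent.SporadicStructure.UnitTwo (exists_omega two_eq_zero)
open Cfsg.Agent.R01.Lifts Cfsg.Agent.R01.Label Cfsg.Agent.R01.Start
open Cfsg.Agent.KFacts.FiTT.Cent Cfsg.Agent.KFacts.FiTT.Radical Cfsg.Agent.KFacts.FiTT.Levi
open Cfsg.Agent.SporRec.GF4
open Cfsg.Agent.Fischer.Unit22 (hF)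
open scoped commutatorElement

universe v

section General

/-- a nonabelian simple group of even order is not a 2-group -/
theorem not_isPGroup_of_simple {S : Type*} [Group S] [Finite S] (h : IsSimpleGroup S)
    (hc : Subgroup.center S = ⊥) {p : ℕ} [Fact p.Prime] : ¬ IsPGroup p S := by
  intro hp
  have : Nontrivial S := h.toNontrivial
  have h1 := hp.center_nontrivial
  rw [hc] at h1
  exact not_subsingleton_iff_nontrivial.2 h1 inferInstance

theorem index_cent {G : Type*} [Group G] (g : G) :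
    (Subgroup.centralizer ({g} : Set G)).index = (conjugatesOf g).ncard := by
  have h1 : (Subgroup.centralizer ({g} : Set G)).index =
      (MulAction.stabilizer (ConjAct G) g).index := by
    rw [Subgroup.centralizer_eq_comap_stabilizer]
    exact Subgroup.index_comap_of_surjective _ (ConjAct.toConjAct (G := G)).surjective
  rw [h1, MulAction.index_stabilizer]
  congr 1
  ext h
  rw [ConjAct.mem_orbit_conjAct]
  exact ⟨fun h => h.symm, fun h => h.symm⟩

end General

variable {K : Type v} [Group K] {T : Set K} {d : K}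
  {π : Subgroup.centralizer ({d} : Set K) →* PSU 6 F4 2}
  {lift : (Fin 6 → F4) → Subgroup.centralizer ({d} : Set K)}

theorem mem_cent {x : K} : x ∈ Subgroup.centralizer ({d} : Set K) ↔ x * d = d * x :=
  Subgroup.mem_centralizer_singleton_iff

theorem mem_pair {a b x : K} : x ∈ Subgroup.centralizer ({a, b} : Set K) ↔
    x * a = a * x ∧ x * b = b * x := by
  rw [Subgroup.mem_centralizer_iff]
  constructor
  · intro h
    exact ⟨(h a (Set.mem_insert _ _)).symm, (h b (Set.mem_insert_of_mem _ rfl)).symm⟩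
  · rintro ⟨h1, h2⟩ y (rfl | hy)
    · exact h1.symm
    · rw [Set.mem_singleton_iff] at hy
      rw [hy]
      exact h2.symm

theorem mem_P0_of {x : K} (h1 : x * d = d * x) (h2 : x * d2 lift = d2 lift * x) :
    (⟨x, mem_cent.2 h1⟩ : Subgroup.centralizer ({d} : Set K)) ∈ P0 lift :=
  mem_P0.2 (Subtype.ext h2)

theorem comm_of_P0 {c : Subgroup.centralizer ({d} : Set K)} (h : c ∈ P0 lift) :
    (c : K) * d2 lift = d2 lift * c := congrArg Subtype.val (mem_P0.1 h)

/-- `C_C(d2)` is `C_K(d, d2)` -/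
def eP (lift : (Fin 6 → F4) → Subgroup.centralizer ({d} : Set K)) :
    P0 lift ≃* Subgroup.centralizer ({d, d2 lift} : Set K) where
  toFun x := ⟨(x : Subgroup.centralizer ({d} : Set K)), mem_pair.2 ⟨comm_d _, comm_of_P0 x.2⟩⟩
  invFun x := ⟨⟨x, mem_cent.2 (mem_pair.1 x.2).1⟩,
    mem_P0_of (mem_pair.1 x.2).1 (mem_pair.1 x.2).2⟩
  left_inv _ := rfl
  right_inv _ := rfl
  map_mul' _ _ := rfl

theorem coe_eP (x : P0 lift) : ((eP lift x : Subgroup.centralizer ({d, d2 lift} : Set K)) : K) =
    ((x : Subgroup.centralizer ({d} : Set K)) : K) := rfl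

/-- the radical in `K` -/
def RK (lift : (Fin 6 → F4) → Subgroup.centralizer ({d} : Set K)) : Subgroup K :=
  (Rad lift).map (Subgroup.centralizer ({d} : Set K)).subtype

theorem mem_RK {x : K} : x ∈ RK lift ↔ ∃ c ∈ Rad lift, (c : K) = x := Iff.rfl

namespace Base

variable (B : Base K T d π lift)
include B

theorem zz_coe : ((zz lift (zel d) : Subgroup.centralizer ({d} : Set K)) : K) = d * d2 lift := rfl

theorem RK_le : RK lift ≤ Subgroup.centralizer ({d, d2 lift} : Set K) := by
  rintro x ⟨c, hc, rfl⟩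
  exact mem_pair.2 ⟨comm_d _, comm_of_P0 (Rad_le B.lab hc)⟩

theorem mem_RK_of {x : Subgroup.centralizer ({d} : Set K)} (h : (x : K) ∈ RK lift) :
    x ∈ Rad lift := by
  obtain ⟨c, hc, h⟩ := h
  have : c = x := Subtype.ext h
  rwa [← this]

theorem eq_of_comm_RK {x : K} (h1 : x * d = d * x) (h2 : x * d2 lift = d2 lift * x)
    (h : ∀ w : Fin 6 → F4, Adm w → x * (lift w : Subgroup.centralizer ({d} : Set K)) =
      (lift w : Subgroup.centralizer ({d} : Set K)) * x) :
    x = 1 ∨ x = d ∨ x = d2 lift ∨ x = d * d2 lift := by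
  have h3 := eq_of_comm B.lab (mem_P0_of h1 h2) (fun w hw => Subtype.ext (h w hw))
  rcases h3 with h | h | h | h
  · exact Or.inl (congrArg Subtype.val h)
  · exact Or.inr (Or.inl (congrArg Subtype.val h))
  · exact Or.inr (Or.inr (Or.inl (congrArg Subtype.val h)))
  · exact Or.inr (Or.inr (Or.inr (congrArg Subtype.val h)))

theorem four_cases {x : Subgroup.centralizer ({d} : Set K)}
    (h : x = 1 ∨ x = zel d ∨ x = lift u ∨ x = zz lift (zel d)) :
    (x : K) = 1 ∨ (x : K) = d ∨ (x : K) = d2 lift ∨ (x : K) = d * d2 lift := by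
  rcases h with h | h | h | h
  · exact Or.inl (congrArg Subtype.val h)
  · exact Or.inr (Or.inl (congrArg Subtype.val h))
  · exact Or.inr (Or.inr (Or.inl (congrArg Subtype.val h)))
  · exact Or.inr (Or.inr (Or.inr (congrArg Subtype.val h)))

/-! ### The centraliser of `d` -/

theorem simple_PSU : IsSimpleGroup (PSU 6 F4 2) :=
  Cfsg.Agent.S0283.result (q := 2) hF 6 (by norm_num) (by norm_num)

theorem center_PSU : Subgroup.center (PSU 6 F4 2) = ⊥ := by
  have hs := B.simple_PSU
  rcases hs.eq_bot_or_eq_top_of_normal (Subgroup.center (PSU 6 F4 2)) inferInstance with h | h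
  · exact h
  · exfalso
    obtain ⟨ω, hω⟩ := exists_omega hF
    have hω0 : ω ≠ 0 := by
      rintro rfl
      simp at hω
    have ha := adm_a hF
    have hb : Adm (ι (eb ω) : Fin 6 → F4) := adm_ι hF (eb_ne hω0) (herm_eb hF hω)
    have h1 : Commute (π (lift (ι (eb ω)))) (π (lift (ι (ea F4)))) := by
      have h2 : π (lift (ι (ea F4))) ∈ Subgroup.center (PSU 6 F4 2) := by rw [h]; trivial
      exact Subgroup.mem_center_iff.1 h2 _
    rw [B.lab.map _ hb.ne hb.iso, B.lab.map _ ha.ne ha.iso,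
      Cfsg.Agent.R01.PSUSix.tau_commute_iff hF (by norm_num) hb.iso ha.iso hb.ne] at h1
    have h4 := herm_ι_left (m := 4) (eb ω) (ι (ea F4))
    rw [top_ι, herm_eb_ea hF hω] at h4
    exact one_ne_zero (α := F4) (h4.symm.trans h1)

theorem ker_eq : π.ker = Subgroup.center (Subgroup.centralizer ({d} : Set K)) := by
  ext c
  rw [MonoidHom.mem_ker, Subgroup.mem_center_iff]
  constructor
  · intro h g
    rcases (B.lab.ext.ker c).1 h with rfl | rfl
    · rw [mul_one, one_mul]
    · exact B.lab.ext.comm g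
  · intro h
    have h1 : π c ∈ Subgroup.center (PSU 6 F4 2) := by
      rw [Subgroup.mem_center_iff]
      intro g
      obtain ⟨g, rfl⟩ := B.lab.ext.surj g
      rw [← map_mul, ← map_mul, h]
    rwa [B.center_PSU, Subgroup.mem_bot] at h1

/-- `C_K(d) / ⟨d⟩` is `U6(2)` -/
noncomputable def quoEquiv : Subgroup.centralizer ({d} : Set K) ⧸
    Subgroup.center (Subgroup.centralizer ({d} : Set K)) ≃* PSU 6 F4 2 :=
  (QuotientGroup.quotientMulEquivOfEq B.ker_eq.symm).trans
    (QuotientGroup.quotientKerEquivOfSurjective π B.lab.ext.surj)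

theorem quasi : IsQuasisimple (Subgroup.centralizer ({d} : Set K)) := by
  refine ⟨Group.isPerfect_def.2 B.lab.perf, ?_⟩
  have := B.simple_PSU
  exact B.quoEquiv.isSimpleGroup

theorem cc {x : K} (h : ∀ y, y * d = d * y → x * y = y * x) : x = 1 ∨ x = d := by
  have hx : x * d = d * x := h d rfl
  have h1 : (⟨x, mem_cent.2 hx⟩ : Subgroup.centralizer ({d} : Set K)) ∈ π.ker := by
    rw [B.ker_eq, Subgroup.mem_center_iff]
    rintro ⟨g, hg⟩
    exact Subtype.ext (h g (mem_cent.1 hg)).symm
  rcases (B.lab.ext.ker _).1 (MonoidHom.mem_ker.1 h1) with h | h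
  · exact Or.inl (congrArg Subtype.val h)
  · exact Or.inr (congrArg Subtype.val h)

/-! ### The centraliser of `d` and `d2` -/

theorem perfect : commutator (Subgroup.centralizer ({d, d2 lift} : Set K)) = ⊤ := by
  have h := Radical.perfect B.lab B.hept
  rw [eq_top_iff]
  intro x _
  obtain ⟨c, rfl⟩ := (eP lift).surjective x
  have hc : c ∈ commutator (P0 lift) := by rw [h]; trivial
  have h1 : Subgroup.map (eP lift).toMonoidHom (commutator (P0 lift)) ≤
      commutator (Subgroup.centralizer ({d, d2 lift} : Set K)) := by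
    rw [commutator_def, commutator_def, Subgroup.map_commutator]
    exact Subgroup.commutator_mono le_top le_top
  exact h1 ⟨c, hc, rfl⟩

theorem czP {x : K} (h : ∀ y, y * d = d * y → y * d2 lift = d2 lift * y → x * y = y * x) :
    x = 1 ∨ x = d ∨ x = d2 lift ∨ x = d * d2 lift := by
  apply B.eq_of_comm_RK (h d rfl B.d2_comm.symm) (h _ B.d2_comm rfl)
  intro w hw
  exact h _ (comm_d _) (comm_of_P0 (lift_mem B.lab hw.ne hw.iso hw.perp))

theorem R_two : IsPGroup 2 (RK lift) := (isPGroup_Rad B.lab).map _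

theorem dich {N : Subgroup K} (hN : N ≤ RK lift)
    (hn : ∀ g, g * d = d * g → g * d2 lift = d2 lift * g → ∀ x ∈ N, g * x * g⁻¹ ∈ N) :
    N = RK lift ∨ ∀ x ∈ N, x = 1 ∨ x = d ∨ x = d2 lift ∨ x = d * d2 lift := by
  have hle : N.subgroupOf (Subgroup.centralizer ({d} : Set K)) ≤ Rad lift := by
    intro x hx
    exact B.mem_RK_of (hN hx)
  have hmap : (N.subgroupOf (Subgroup.centralizer ({d} : Set K))).map
      (Subgroup.centralizer ({d} : Set K)).subtype = N := by
    rw [Subgroup.subgroupOf_map_subtype, inf_eq_left]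
    intro x hx
    obtain ⟨c, _, rfl⟩ := hN hx
    exact c.2
  rcases normal_dichotomy B.lab hle (fun c hc x hx =>
    hn _ (comm_d c) (comm_of_P0 hc) _ hx) with h | h
  · left
    rw [← hmap, h]
    rfl
  · right
    intro x hx
    obtain ⟨c, _, rfl⟩ := hN hx
    exact B.four_cases (h c hx)

/-- the projection onto `PSU 4 F4 2` -/
noncomputable def fR : Subgroup.centralizer ({d, d2 lift} : Set K) →* PSU 4 F4 2 :=
  ((suEquiv hF).toMonoidHom.comp (lv B.lab)).comp (eP lift).symm.toMonoidHom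

theorem fR_surjective : Function.Surjective B.fR :=
  ((suEquiv hF).surjective.comp (lv_surjective B.lab)).comp (eP lift).symm.surjective

theorem fR_eq_one_iff (x : Subgroup.centralizer ({d, d2 lift} : Set K)) :
    B.fR x = 1 ↔ (x : K) ∈ RK lift := by
  obtain ⟨c, rfl⟩ := (eP lift).surjective x
  have h1 : B.fR (eP lift c) = suEquiv hF (lv B.lab c) := by
    show suEquiv hF (lv B.lab ((eP lift).symm (eP lift c))) = _
    rw [MulEquiv.symm_apply_apply]
  rw [h1, map_eq_one_iff _ (suEquiv hF).injective]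
  constructor
  · intro h
    exact ⟨c, mem_Rad_of_lv B.lab (z_mem_Rad B.lab B.hept) (u_mem_Rad B.lab B.hept) h, rfl⟩
  · intro h
    exact lv_of_mem_Rad B.lab (B.mem_RK_of h)

theorem d_mem : d ∈ RK lift := ⟨_, z_mem_Rad B.lab B.hept, rfl⟩

theorem d2_mem_RK : d2 lift ∈ RK lift := ⟨_, u_mem_Rad B.lab B.hept, rfl⟩

/-- `R = O_2` -/
theorem O2 {N : Subgroup K} (hN : N ≤ Subgroup.centralizer ({d, d2 lift} : Set K))
    (hn : ∀ g, g * d = d * g → g * d2 lift = d2 lift * g → ∀ x ∈ N, g * x * g⁻¹ ∈ N)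
    (hp : IsPGroup 2 N) : N ≤ RK lift := by
  have : Fact (Nat.Prime 2) := ⟨Nat.prime_two⟩
  set P := Subgroup.centralizer ({d, d2 lift} : Set K) with hP
  have hs : IsSimpleGroup (PSU 4 F4 2) := by
    have := isSimple_SU_four hF
    exact (suEquiv hF).symm.isSimpleGroup
  have hc : Subgroup.center (PSU 4 F4 2) = ⊥ := by
    rw [eq_bot_iff]
    intro x hx
    have h1 : (suEquiv hF).symm x ∈ Subgroup.center (SU 4 F4 2) := by
      rw [Subgroup.mem_center_iff] at hx ⊢
      intro g
      apply (suEquiv hF).injective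
      rw [map_mul, map_mul, MulEquiv.apply_symm_apply]
      exact hx _
    have h2 : (suEquiv hF).symm x = 1 := Subgroup.mem_bot.1 ((le_of_eq (center_SU_four hF)) h1)
    rw [Subgroup.mem_bot, ← (suEquiv hF).apply_symm_apply x, h2, map_one]
  set N' := (N.subgroupOf P).map B.fR with hN'
  have hnorm : N'.Normal := by
    constructor
    rintro _ ⟨⟨x, hxP⟩, hx, rfl⟩ g
    obtain ⟨⟨g, hgP⟩, rfl⟩ := B.fR_surjective g
    refine ⟨⟨g, hgP⟩ * ⟨x, hxP⟩ * (⟨g, hgP⟩ : P)⁻¹, ?_, by rw [map_mul, map_mul, map_inv]⟩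
    exact hn g (mem_pair.1 hgP).1 (mem_pair.1 hgP).2 x hx
  have hpN : IsPGroup 2 N' := by
    apply IsPGroup.map
    exact hp.comap_subtype
  have hfin : Finite (PSU 4 F4 2) := by
    have := B.finite
    exact Finite.of_surjective _ B.fR_surjective
  rcases hs.eq_bot_or_eq_top_of_normal N' hnorm with h | h
  · intro x hx
    have h1 : B.fR ⟨x, hN hx⟩ ∈ N' := ⟨⟨x, hN hx⟩, hx, rfl⟩
    rw [h, Subgroup.mem_bot] at h1
    exact (B.fR_eq_one_iff _).1 h1
  · exfalso
    rw [h] at hpN
    refine not_isPGroup_of_simple hs hc (p := 2) ?_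
    exact hpN.of_equiv Subgroup.topEquiv

/-- `R` is normal in `C_K(d d2)` -/
theorem R_normal {g : K} (hg : g * (d * d2 lift) = d * d2 lift * g) {x : K} (hx : x ∈ RK lift) :
    g * x * g⁻¹ ∈ RK lift := by
  rcases B.swap_or_fix hg with ⟨h1, h2⟩ | ⟨h1, h2⟩
  · obtain ⟨c, hc, rfl⟩ := hx
    exact ⟨_, conj_mem_Rad B.lab (mem_P0_of h1 h2) hc, rfl⟩
  · have hconj : ∀ y : K, y * d = d * y → y * d2 lift = d2 lift * y →
        (g⁻¹ * y * g) * d = d * (g⁻¹ * y * g) ∧
        (g⁻¹ * y * g) * d2 lift = d2 lift * (g⁻¹ * y * g) := by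
      intro y hy hy2
      have e1 : g * d = d2 lift * g := mul_inv_eq_iff_eq_mul.1 h1
      have e2 : g * d2 lift = d * g := mul_inv_eq_iff_eq_mul.1 h2
      have e3 : d * g⁻¹ = g⁻¹ * d2 lift := by
        rw [eq_inv_mul_iff_mul_eq, ← mul_assoc, e1, mul_inv_cancel_right]
      have e4 : d2 lift * g⁻¹ = g⁻¹ * d := by
        rw [eq_inv_mul_iff_mul_eq, ← mul_assoc, e2, mul_inv_cancel_right]
      constructor
      · calc g⁻¹ * y * g * d = g⁻¹ * y * (g * d) := by group
          _ = g⁻¹ * (y * d2 lift) * g := by rw [e1]; group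
          _ = (g⁻¹ * d2 lift) * y * g := by rw [hy2]; group
          _ = _ := by rw [← e3]; group
      · calc g⁻¹ * y * g * d2 lift = g⁻¹ * y * (g * d2 lift) := by group
          _ = g⁻¹ * (y * d) * g := by rw [e2]; group
          _ = (g⁻¹ * d) * y * g := by rw [hy]; group
          _ = _ := by rw [← e4]; group
    have hconj' : ∀ y : K, y * d = d * y → y * d2 lift = d2 lift * y →
        (g * y * g⁻¹) * d = d * (g * y * g⁻¹) ∧
        (g * y * g⁻¹) * d2 lift = d2 lift * (g * y * g⁻¹) := by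
      intro y hy hy2
      have e1 : g * d = d2 lift * g := mul_inv_eq_iff_eq_mul.1 h1
      have e2 : g * d2 lift = d * g := mul_inv_eq_iff_eq_mul.1 h2
      have e3 : g⁻¹ * d = d2 lift * g⁻¹ := by
        rw [inv_mul_eq_iff_eq_mul, ← mul_assoc, e2, mul_inv_cancel_right]
      have e4 : g⁻¹ * d2 lift = d * g⁻¹ := by
        rw [inv_mul_eq_iff_eq_mul, ← mul_assoc, e1, mul_inv_cancel_right]
      constructor
      · calc g * y * g⁻¹ * d = g * y * (g⁻¹ * d) := by group
          _ = g * (y * d2 lift) * g⁻¹ := by rw [e3]; group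
          _ = (g * d2 lift) * y * g⁻¹ := by rw [hy2]; group
          _ = _ := by rw [e2]; group
      · calc g * y * g⁻¹ * d2 lift = g * y * (g⁻¹ * d2 lift) := by group
          _ = g * (y * d) * g⁻¹ := by rw [e4]; group
          _ = (g * d) * y * g⁻¹ := by rw [hy]; group
          _ = _ := by rw [e1]; group
    set N := (RK lift).map (MulAut.conj g).toMonoidHom with hN
    have hNle : N ≤ RK lift := by
      apply B.O2
      · rintro _ ⟨y, hy, rfl⟩
        have h3 := mem_pair.1 (B.RK_le hy)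
        exact mem_pair.2 (hconj' y h3.1 h3.2)
      · rintro k hk1 hk2 _ ⟨y, hy, rfl⟩
        obtain ⟨h3, h4⟩ := hconj k hk1 hk2
        obtain ⟨c, hc, rfl⟩ := hy
        refine ⟨(g⁻¹ * k * g) * c * (g⁻¹ * k * g)⁻¹,
          ⟨_, conj_mem_Rad B.lab (mem_P0_of h3 h4) hc, rfl⟩, ?_⟩
        show g * ((g⁻¹ * k * g) * c * (g⁻¹ * k * g)⁻¹) * g⁻¹ = k * (g * c * g⁻¹) * k⁻¹
        group
      · exact B.R_two.map _
    exact hNle ⟨x, hx, rfl⟩

/-- the centraliser of the radical -/
theorem R_center {x : K} (h : ∀ y ∈ RK lift, x * y = y * x) :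
    x = 1 ∨ x = d ∨ x = d2 lift ∨ x = d * d2 lift := by
  have h1 : x * d = d * x := h d B.d_mem
  have h2 : x * d2 lift = d2 lift * x := h _ B.d2_mem_RK
  set P := Subgroup.centralizer ({d, d2 lift} : Set K) with hP
  have hs : IsSimpleGroup (PSU 4 F4 2) := by
    have := isSimple_SU_four hF
    exact (suEquiv hF).symm.isSimpleGroup
  -- `A = C_P(R)`
  let A : Subgroup P := (Subgroup.centralizer ((RK lift : Subgroup K) : Set K)).subgroupOf P
  have hA : ∀ y : P, y ∈ A ↔ ∀ r ∈ RK lift, (y : K) * r = r * y := by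
    intro y
    rw [Subgroup.mem_subgroupOf, Subgroup.mem_centralizer_iff]
    exact ⟨fun h r hr => (h r hr).symm, fun h r hr => (h r hr).symm⟩
  have hconjR : ∀ (g : P) (r : K), r ∈ RK lift → (g : K)⁻¹ * r * g ∈ RK lift := by
    intro g r hr
    have h3 := mem_pair.1 (g⁻¹ : P).2
    obtain ⟨c, hc, rfl⟩ := hr
    have h4 : (⟨((g⁻¹ : P) : K), mem_cent.2 h3.1⟩ : Subgroup.centralizer ({d} : Set K)) * c *
        (⟨((g⁻¹ : P) : K), mem_cent.2 h3.1⟩ : Subgroup.centralizer ({d} : Set K))⁻¹ ∈ Rad lift :=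
      conj_mem_Rad B.lab (mem_P0_of h3.1 h3.2) hc
    refine ⟨_, h4, ?_⟩
    show ((g : K)⁻¹) * c * ((g : K)⁻¹)⁻¹ = _
    rw [inv_inv]
    rfl
  have hAn : A.Normal := by
    constructor
    intro y hy g
    rw [hA] at hy ⊢
    intro r hr
    show (g : K) * y * (g : K)⁻¹ * r = r * ((g : K) * y * (g : K)⁻¹)
    have h3 := hy _ (hconjR g r hr)
    calc (g : K) * y * (g : K)⁻¹ * r = g * (y * ((g : K)⁻¹ * r * g)) * (g : K)⁻¹ := by group
      _ = g * (((g : K)⁻¹ * r * g) * y) * (g : K)⁻¹ := by rw [h3]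
      _ = _ := by group
  have hnorm : (A.map B.fR).Normal := hAn.map _ B.fR_surjective
  rcases hs.eq_bot_or_eq_top_of_normal _ hnorm with h0 | h0
  · -- `A ≤ R`
    have hxA : (⟨x, mem_pair.2 ⟨h1, h2⟩⟩ : P) ∈ A := (hA _).2 h
    have hx1 : B.fR ⟨x, mem_pair.2 ⟨h1, h2⟩⟩ ∈ A.map B.fR := ⟨_, hxA, rfl⟩
    rw [h0, Subgroup.mem_bot] at hx1
    have hxR := (B.fR_eq_one_iff _).1 hx1
    -- the centre of `R`
    have hle : RK lift ⊓ Subgroup.centralizer ((RK lift : Subgroup K) : Set K) ≤ RK lift :=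
      inf_le_left
    have hinv : ∀ g, g * d = d * g → g * d2 lift = d2 lift * g →
        ∀ y ∈ RK lift ⊓ Subgroup.centralizer ((RK lift : Subgroup K) : Set K),
        g * y * g⁻¹ ∈ RK lift ⊓ Subgroup.centralizer ((RK lift : Subgroup K) : Set K) := by
      intro g hg1 hg2 y hy
      refine ⟨B.R_normal ?_ hy.1, ?_⟩
      · rw [← mul_assoc, hg1, mul_assoc, hg2, mul_assoc]
      · have h4 : (⟨g, mem_pair.2 ⟨hg1, hg2⟩⟩ : P) * ⟨y, B.RK_le hy.1⟩ *
            (⟨g, mem_pair.2 ⟨hg1, hg2⟩⟩ : P)⁻¹ ∈ A := by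
          apply hAn.conj_mem
          exact hy.2
        exact h4
    rcases B.dich hle hinv with h3 | h3
    · exfalso
      obtain ⟨a, ha, b, hb, hab⟩ := exists_comm_zz B.lab
      have h4 : (a : K) ∈ RK lift := ⟨a, ha, rfl⟩
      rw [← h3] at h4
      have h5 := (Subgroup.mem_centralizer_iff.1 h4.2) (b : K) ⟨b, hb, rfl⟩
      have h6 : a * b * a⁻¹ * b⁻¹ = 1 := by
        apply Subtype.ext
        show (a : K) * b * (a : K)⁻¹ * (b : K)⁻¹ = 1
        rw [← h5]
        group
      rw [h6] at hab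
      have h7 : (1 : K) = d * d2 lift := congrArg Subtype.val hab
      apply B.ne
      have h8 := eq_inv_of_mul_eq_one_left h7.symm
      rwa [B.inv B.d2_mem] at h8
    · exact h3 x ⟨hxR, Subgroup.mem_centralizer_iff.2 fun y hy => (h y hy).symm⟩
  · -- every element of `P` induces an inner automorphism on `R`
    exfalso
    have hinner : ∀ (c : Subgroup.centralizer ({d} : Set K)), c ∈ P0 lift → ∀ r ∈ Rad lift,
        c * r * c⁻¹ = r ∨ c * r * c⁻¹ = zz lift (zel d) * r := by
      intro c hc r hr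
      have hcP : (c : K) ∈ P := mem_pair.2 ⟨comm_d c, comm_of_P0 hc⟩
      have h3 : B.fR ⟨c, hcP⟩ ∈ A.map B.fR := by rw [h0]; trivial
      obtain ⟨a, ha, hac⟩ := h3
      have h4 : B.fR (a⁻¹ * ⟨c, hcP⟩) = 1 := by rw [map_mul, map_inv, hac, inv_mul_cancel]
      have h5 := (B.fR_eq_one_iff _).1 h4
      obtain ⟨s, hs, hsc⟩ := h5
      have h6 : (c : K) = a * s := by
        have h7 : (s : K) = (a : K)⁻¹ * c := hsc
        rw [h7, mul_inv_cancel_left]
      have h8 := (hA a).1 ha
      have h9 : (c : K) * r * (c : K)⁻¹ = s * r * (s : K)⁻¹ := by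
        have h10 : (s * r * s⁻¹ : Subgroup.centralizer ({d} : Set K)) ∈ Rad lift :=
          mul_mem (mul_mem hs hr) (inv_mem hs)
        have h11 := h8 _ ⟨_, h10, rfl⟩
        calc (c : K) * r * (c : K)⁻¹ = a * ((s : K) * r * (s : K)⁻¹) * (a : K)⁻¹ := by
              rw [h6]; group
          _ = ((s : K) * r * (s : K)⁻¹) * a * (a : K)⁻¹ := by
              congr 1
          _ = _ := by group
      rcases comm_Rad B.lab hs hr with h12 | h12
      · left
        have h13 : c * r * c⁻¹ = s * r * s⁻¹ := Subtype.ext h9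
        rw [h13]
        exact mul_inv_eq_one.1 h12
      · right
        have h13 : c * r * c⁻¹ = s * r * s⁻¹ := Subtype.ext h9
        rw [h13]
        exact mul_inv_eq_iff_eq_mul.1 h12
    -- `Rad` is abelian
    have ha := adm_a hF
    set x0 := lift (ι (ea F4)) * lift (ι (ea F4) + (1 : F4) • u) with hx0
    have hx0R : x0 ∈ Rad lift := pair_mem_Rad ha rfl (ha.add hF 1).ne
    have hgen : ∀ y ∈ Rad lift, y ∈ Subgroup.closure ({x0, zz lift (zel d)} : Set _) := by
      intro y hy
      refine Subgroup.closure_induction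
        (p := fun y _ => y ∈ Subgroup.closure ({x0, zz lift (zel d)} : Set _)) ?_ ?_ ?_ ?_ hy
      · rintro y ⟨w, c, h0', h0'', hw, hwu, rfl⟩
        by_cases hc : c = 0
        · subst hc
          rw [zero_smul, add_zero, B.lab.sq w h0' hw]
          exact one_mem _
        by_cases hk : ∃ k : F4, w = k • u
        · obtain ⟨k, rfl⟩ := hk
          have hk0 : k ≠ 0 := by
            rintro rfl
            exact h0' (zero_smul _ _)
          have hkc : k + c ≠ 0 := by
            intro h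
            apply h0''
            rw [← add_smul, h, zero_smul]
          have h1 : lift (k • u) * lift (k • u + c • u) = 1 := by
            rw [← add_smul, B.lab.smul u k (hu hF) hk0, B.lab.smul u (k + c) (hu hF) hkc, uu B.lab]
          rw [h1]
          exact one_mem _
        · obtain ⟨g, hg, h3, h4⟩ := exists_conj_pair B.lab ha ⟨hw, hwu, hk⟩
            (one_ne_zero (α := F4)) hc
          have h5 : lift w * lift (w + c • u) = g * x0 * g⁻¹ := by
            rw [hx0, ← h3, ← h4]
            group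
          rw [h5]
          rcases hinner g hg x0 hx0R with h6 | h6
          · rw [h6]
            exact Subgroup.subset_closure (Set.mem_insert _ _)
          · rw [h6]
            exact mul_mem (Subgroup.subset_closure (Set.mem_insert_of_mem _ rfl))
              (Subgroup.subset_closure (Set.mem_insert _ _))
      · exact one_mem _
      · intro a b _ _ ha hb
        exact mul_mem ha hb
      · intro a _ ha
        exact inv_mem ha
    have hcomm : ∀ y ∈ Rad lift, ∀ y' ∈ Rad lift, y * y' = y' * y := by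
      intro y hy y' hy'
      have h3 : IsMulCommutative (Subgroup.closure ({x0, zz lift (zel d)} : Set _)) := by
        apply Subgroup.isMulCommutative_closure
        rintro a (rfl | ha) b (rfl | hb)
        · rfl
        · rw [Set.mem_singleton_iff] at hb
          rw [hb]
          exact zz_comm B.lab (Rad_le B.lab hx0R)
        · rw [Set.mem_singleton_iff] at ha
          rw [ha]
          exact (zz_comm B.lab (Rad_le B.lab hx0R)).symm
        · rw [Set.mem_singleton_iff] at ha hb
          rw [ha, hb]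
      have h4 := h3.is_comm.comm (⟨y, hgen y hy⟩ : Subgroup.closure _) ⟨y', hgen y' hy'⟩
      exact congrArg Subtype.val h4
    obtain ⟨a, ha', b, hb, hab⟩ := exists_comm_zz B.lab
    rw [hcomm a ha' b hb, mul_inv_cancel_right, mul_inv_cancel] at hab
    have h7 : (1 : K) = d * d2 lift := congrArg Subtype.val hab
    apply B.ne
    have h8 := eq_inv_of_mul_eq_one_left h7.symm
    rwa [B.inv B.d2_mem] at h8

end Base

end Cfsg.Agent.KFacts.FiTT

end

-- merged: Cfsg.Agent.KFacts.FiTT.Final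
section

/-!
# The facts on `Fi22`: indices, the centre of a Sylow 2-subgroup, the final theorem
-/

set_option autoImplicit false
set_option linter.unusedSectionVars false

namespace Cfsg.Agent.KFacts.FiTT

open Cfsg Cfsg.Agent.LieClassical.HermBasic Cfsg.Agent.ClassicalGeometry.UnitTransv
open Cfsg.Agent.R01.Lifts Cfsg.Agent.R01.Label Cfsg.Agent.R01.Start
open Cfsg.Agent.KFacts.FiTT.Cent Cfsg.Agent.KFacts.FiTT.Radical Cfsg.Agent.KFacts.FiTT.Levi
open Cfsg.Agent.SporRec.GF4
open Cfsg.Agent.Fischer.Unit22 (hF)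

universe v

theorem card_PSU_four : Nat.card (PSU 4 F4 2) = 25920 := by
  have h1 := Cfsg.Agent.S0280.result (F := F4) (q := 2) rfl 4 (by norm_num)
  have h2 : Nat.gcd 4 (2 + 1) = 1 := by norm_num
  have h3 : (∏ i ∈ Finset.range 4, (if Even i then 2 ^ (i + 1) + 1 else 2 ^ (i + 1) - 1)) = 1215 := by
    decide
  rw [h2, h3] at h1
  norm_num at h1
  omega

variable {K : Type v} [Group K] {T : Set K} {d : K}
  {π : Subgroup.centralizer ({d} : Set K) →* PSU 6 F4 2}
  {lift : (Fin 6 → F4) → Subgroup.centralizer ({d} : Set K)}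

namespace Base

variable (B : Base K T d π lift)
include B

theorem T_eq : T = conjugatesOf d := by
  obtain ⟨-, ⟨t, ht, hT⟩, -⟩ := B.three
  have hd := B.mem
  rw [hT] at hd
  rw [hT]
  ext x
  exact ⟨fun h => (show IsConj t d from hd).symm.trans h, fun h => (show IsConj t d from hd).trans h⟩

theorem index_C : (Subgroup.centralizer ({d} : Set K)).index = 3510 := by
  rw [index_cent, ← B.T_eq, B.ncard]

theorem Dset_eq : Dset lift = conjugatesOf (lift u) := by
  ext x
  constructor
  · rintro ⟨v, h0, hv, rfl⟩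
    obtain ⟨c, hc⟩ := B.lab.trans (hu hF) hv (u_ne hF) h0
    exact isConj_iff.2 ⟨c, hc⟩
  · intro h
    obtain ⟨c, rfl⟩ := isConj_iff.1 (show IsConj (lift u) x from h)
    exact B.lab.conj_mem (Lab.mem_D (u_ne hF) (hu hF)) c

theorem index_P0 : (P0 lift).index = 693 := by
  rw [P0, index_cent, ← B.Dset_eq, B.link]

theorem relIndex_P : (Subgroup.centralizer ({d, d2 lift} : Set K)).relIndex
    (Subgroup.centralizer ({d} : Set K)) = 693 := by
  rw [← B.index_P0]
  show ((Subgroup.centralizer ({d, d2 lift} : Set K)).subgroupOf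
    (Subgroup.centralizer ({d} : Set K))).index = _
  congr 1
  ext x
  rw [Subgroup.mem_subgroupOf, mem_pair, mem_P0]
  exact ⟨fun h => Subtype.ext h.2, fun h => ⟨comm_d x, congrArg Subtype.val h⟩⟩

theorem index_P : (Subgroup.centralizer ({d, d2 lift} : Set K)).index = 693 * 3510 := by
  have hle : Subgroup.centralizer ({d, d2 lift} : Set K) ≤ Subgroup.centralizer ({d} : Set K) :=
    fun x hx => mem_cent.2 (mem_pair.1 hx).1
  rw [← Subgroup.relIndex_mul_index hle, B.relIndex_P, B.index_C]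

theorem card_P : Nat.card (Subgroup.centralizer ({d, d2 lift} : Set K)) = 26542080 := by
  have h := (Subgroup.centralizer ({d, d2 lift} : Set K)).card_mul_index
  rw [B.index_P, B.card] at h
  omega

theorem mem_z {x : K} : x ∈ Subgroup.centralizer ({d * d2 lift} : Set K) ↔
    x * (d * d2 lift) = d * d2 lift * x := Subgroup.mem_centralizer_singleton_iff

theorem P_le_z : Subgroup.centralizer ({d, d2 lift} : Set K) ≤
    Subgroup.centralizer ({d * d2 lift} : Set K) := by
  intro x hx
  obtain ⟨h1, h2⟩ := mem_pair.1 hx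
  rw [B.mem_z, ← mul_assoc, h1, mul_assoc, h2, mul_assoc]

theorem relIndex_z : (Subgroup.centralizer ({d, d2 lift} : Set K)).relIndex
    (Subgroup.centralizer ({d * d2 lift} : Set K)) = 2 := by
  rw [Subgroup.relIndex_eq_two_iff]
  obtain ⟨p, hp, hp'⟩ := B.exists_swap
  have hpz : p * (d * d2 lift) = d * d2 lift * p := by
    have h1 : p * (d * d2 lift) * p⁻¹ = (p * d * p⁻¹) * (p * d2 lift * p⁻¹) := by group
    rw [hp, hp', B.d2_comm] at h1
    exact mul_inv_eq_iff_eq_mul.1 h1
  have hp1 : p * d = d2 lift * p := mul_inv_eq_iff_eq_mul.1 hp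
  have hp2 : p * d2 lift = d * p := mul_inv_eq_iff_eq_mul.1 hp'
  refine ⟨p, B.mem_z.2 hpz, fun b hb => ?_⟩
  rcases B.swap_or_fix (B.mem_z.1 hb) with ⟨h1, h2⟩ | ⟨h1, h2⟩
  · right
    refine ⟨mem_pair.2 ⟨h1, h2⟩, fun h => ?_⟩
    have h3 := (mem_pair.1 h).1
    apply B.ne
    have h4 : b * (p * d) = d * b * p := by rw [← mul_assoc, h3, mul_assoc]
    rw [hp1, ← mul_assoc, h2] at h4
    have h5 := mul_right_cancel (mul_right_cancel h4)
    exact h5.symm
  · left
    have e1 : b * d = d2 lift * b := mul_inv_eq_iff_eq_mul.1 h1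
    have e2 : b * d2 lift = d * b := mul_inv_eq_iff_eq_mul.1 h2
    refine ⟨mem_pair.2 ⟨?_, ?_⟩, fun h => ?_⟩
    · rw [mul_assoc, hp1, ← mul_assoc, e2, mul_assoc]
    · rw [mul_assoc, hp2, ← mul_assoc, e1, mul_assoc]
    · have h3 := (mem_pair.1 h).1
      apply B.ne
      rw [e1] at h3
      exact (mul_right_cancel h3).symm

theorem index_z : (Subgroup.centralizer ({d * d2 lift} : Set K)).index = 1216215 := by
  have h := Subgroup.relIndex_mul_index B.P_le_z
  rw [B.relIndex_z, B.index_P] at h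
  omega

theorem R_card : Nat.card (RK lift) = 2 ^ 10 := by
  have hfin := B.finite
  have h1 : Nat.card (Subgroup.centralizer ({d, d2 lift} : Set K)) =
      Nat.card B.fR.ker * Nat.card (PSU 4 F4 2) := by
    rw [← Nat.card_congr (QuotientGroup.quotientKerEquivOfSurjective B.fR
      B.fR_surjective).toEquiv]
    exact (B.fR.ker.card_eq_card_quotient_mul_card_subgroup).trans (mul_comm _ _)
  have h2 : Nat.card B.fR.ker = Nat.card (RK lift) := by
    refine Nat.card_congr
      { toFun := fun x => ⟨((x : Subgroup.centralizer ({d, d2 lift} : Set K)) : K),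
          (B.fR_eq_one_iff _).1 (MonoidHom.mem_ker.1 x.2)⟩
        invFun := fun x => ⟨⟨x, B.RK_le x.2⟩,
          MonoidHom.mem_ker.2 ((B.fR_eq_one_iff _).2 x.2)⟩
        left_inv := fun _ => rfl
        right_inv := fun _ => rfl }
  rw [B.card_P, h2, card_PSU_four] at h1
  omega

/-- the centre of a Sylow 2-subgroup in `C_K(z)` -/
theorem center_S (S : Sylow 2 K) (hS : (S : Subgroup K) ≤ Subgroup.centralizer ({d * d2 lift} : Set K))
    {x : K} (h : ∀ y ∈ S, x * y = y * x) : x = 1 ∨ x = d * d2 lift := by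
  have hfact : Fact (Nat.Prime 2) := ⟨Nat.prime_two⟩
  have hfin := B.finite
  -- `R ≤ S`
  have hRS : RK lift ≤ (S : Subgroup K) := by
    have hz : RK lift ≤ Subgroup.centralizer ({d * d2 lift} : Set K) := B.RK_le.trans B.P_le_z
    have hsup : IsPGroup 2 ((S : Subgroup K) ⊔ RK lift : Subgroup K) := by
      apply IsPGroup.to_sup_of_normal_right' S.isPGroup' B.R_two
      intro s hs
      have hsz := B.mem_z.1 (hS hs)
      have hsz' := B.mem_z.1 (inv_mem (hS hs))
      rw [Subgroup.mem_normalizer_iff]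
      intro r
      constructor
      · intro hr
        exact B.R_normal hsz hr
      · intro hr
        have h3 := B.R_normal hsz' hr
        have h4 : s⁻¹ * (s * r * s⁻¹) * s⁻¹⁻¹ = r := by group
        rwa [h4] at h3
    have h3 := S.is_maximal' hsup le_sup_left
    rw [← h3]
    exact le_sup_right
  have hx := B.R_center (fun y hy => h y (hRS hy))
  -- an element of `S` outside `P`
  obtain ⟨s, hs, hsP⟩ : ∃ s ∈ S, s ∉ Subgroup.centralizer ({d, d2 lift} : Set K) := by
    by_contra hcon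
    push Not at hcon
    have hle : (S : Subgroup K) ≤ Subgroup.centralizer ({d, d2 lift} : Set K) := hcon
    have h1 : ¬ 2 ∣ (S : Subgroup K).index := S.not_dvd_index
    apply h1
    have h2 := Subgroup.index_dvd_of_le hle
    rw [B.index_P] at h2
    exact dvd_trans (by norm_num) h2
  rcases B.swap_or_fix (B.mem_z.1 (hS hs)) with h1 | ⟨h1, h2⟩
  · exact absurd (mem_pair.2 h1) hsP
  · rcases hx with rfl | rfl | rfl | rfl
    · exact Or.inl rfl
    · exfalso
      have h3 := h s hs
      rw [← h3, mul_inv_cancel_right] at h1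
      exact B.ne h1
    · exfalso
      have h3 := h s hs
      rw [← h3, mul_inv_cancel_right] at h2
      exact B.ne h2.symm
    · exact Or.inr rfl

/-- **The facts on `Fi22`.** -/
theorem facts : Facts K d (d2 lift) (RK lift) where
  card := B.card
  dd := B.dd
  dd' := B.d2_sq
  d_ne := B.d_ne
  d'_ne := B.d2_ne_one
  ne := B.ne
  comm := B.d2_comm.symm
  swap := B.exists_swap
  quasi := B.quasi
  quo := ⟨F4, inferInstance, inferInstance, rfl, ⟨B.quoEquiv⟩⟩
  cc x h := B.cc h
  cz x h := B.swap_or_fix h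
  perfect := B.perfect
  czP x h := B.czP h
  R_le := B.RK_le
  d_mem := B.d_mem
  d'_mem := B.d2_mem_RK
  R_two := B.R_two
  R_card := B.R_card
  R_comm := by
    rintro _ ⟨a, ha, rfl⟩ _ ⟨b, hb, rfl⟩
    rcases comm_Rad B.lab ha hb with h | h
    · exact Or.inl (congrArg Subtype.val h)
    · exact Or.inr (congrArg Subtype.val h)
  R_sq := by
    rintro _ ⟨a, ha, rfl⟩
    rcases sq_Rad B.lab ha with h | h
    · exact Or.inl (congrArg Subtype.val h)
    · exact Or.inr (congrArg Subtype.val h)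
  R_nonab := by
    obtain ⟨a, ha, b, hb, hab⟩ := exists_comm_zz B.lab
    exact ⟨a, ⟨a, ha, rfl⟩, b, ⟨b, hb, rfl⟩, congrArg Subtype.val hab⟩
  R_normal g hg x hx := B.R_normal hg hx
  R_center x h := B.R_center h
  dich N hN hn := B.dich hN hn
  O2 N hN hn hp := B.O2 hN hn hp
  quoR := ⟨F4, inferInstance, inferInstance, rfl, B.fR, B.fR_surjective, B.fR_eq_one_iff⟩
  odd := by rw [B.index_z]; decide
  center_S S hS x _ h := B.center_S S hS h

end Base

/-- **Every group isomorphic to `Fi22` has the facts.** -/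
theorem has_of_iso {K : Type v} [Group K] (h : Nonempty (K ≃* Spor.Fi22)) : Has K := by
  obtain ⟨T, d, π, lift, B⟩ := exists_base h
  exact ⟨d, d2 lift, RK lift, B.facts⟩

end Cfsg.Agent.KFacts.FiTT

end
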